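import Cfsg.Agent.Lib.Chevalley.F4Graph.Frame
import Cfsg.Agent.Lib.Chevalley.Types.WF4
import Cfsg.Agent.Lib.Chevalley.WeylEnum

/-!
Eigenvectors of Weyl elements of type F4 modulo primes: regularity by the parity of reflections, and the
relations forced by eigenvalues of orders three, four, six, eight and twelve.
-/

set_option autoImplicit false
set_option linter.unusedSectionVars false

open scoped Matrix
open Polynomial

namespace Cfsg.Agent.Chevalley.F4Graph.Eigen

open Cfsg.Lie Cfsg.Agent.Chevalley Cfsg.Agent.Chevalley.Table Cfsg.Agent.Chevalley.Cert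
  Cfsg.Agent.Chevalley.Group Cfsg.Agent.Chevalley.TorusCard Cfsg.Agent.Chevalley.Singer
  Cfsg.Agent.Chevalley.WeylGroup Cfsg.Agent.Chevalley.WeylEnum
  Cfsg.Agent.SimpleFacts.AbelianSylow.Lattice

abbrev hC : Certified chevF4 Data.F4.tab := Types.F4.certified

theorem card_weyl : Nat.card (WG hC) = 1152 := by
  rw [card_WG hC Types.WF4.chain_ok Types.WF4.top_ok]
  decide +kernel

theorem pow_weyl {L : List ℕ} (hL : ∀ i ∈ L, i < chevF4.rank) : wMat chevF4 L ^ 1152 = 1 :=
  card_weyl ▸ wMat_pow_card hC Weyl.cartan_isUnit.ne_zero hL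

theorem corS : (corMat chevF4)ᵀ * corMat chevF4 =
    !![36, 54, 72, 36; 54, 108, 144, 72; 72, 144, 216, 108; 36, 72, 108, 72] :=
  Singer.of_eqB (by decide +kernel)

theorem detS : ((corMat chevF4)ᵀ * corMat chevF4).det = 419904 := by
  rw [corS]
  exact Singer.det_of_triOk (L := !![1, 0, 0, 0; -3, 2, 0, 0; 0, -4, 3, 0; 0, 0, -1, 2])
    (U := !![36, 54, 72, 36; 0, 54, 72, 36; 0, 0, 72, 36; 0, 0, 0, 36]) (by decide +kernel)

/-- A prime different from two and three divides none of the constants. -/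
theorem not_dvd_small {p : ℕ} (hp : p.Prime) (hp5 : 5 ≤ p) :
    ¬ p ∣ 1152 ∧ ¬ p ∣ 2 * 6 * 8 * 12 ∧ ¬ p ∣ 419904 := by
  refine ⟨fun h => ?_, fun h => ?_, fun h => ?_⟩
  all_goals
    first
      | (have h1 := hp.dvd_mul.1 (show p ∣ 2 ^ 7 * 3 ^ 2 by simpa using h)
         rcases h1 with h1 | h1 <;> have := Nat.le_of_dvd (by norm_num) (hp.dvd_of_dvd_pow h1) <;> omega)
      | (have h1 := hp.dvd_mul.1 (show p ∣ 2 ^ 6 * 3 ^ 8 by simpa using h)
         rcases h1 with h1 | h1 <;> have := Nat.le_of_dvd (by norm_num) (hp.dvd_of_dvd_pow h1) <;> omega)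

variable {p : ℕ} [Fact p.Prime]

/-- The matrix of a word over a prime field. -/
abbrev md (p : ℕ) (L : List ℕ) : Matrix (Fin chevF4.rank) (Fin chevF4.rank) (ZMod p) :=
  (wMat chevF4 L).map Int.cast

theorem det_md (L : List ℕ) : (md p L).det = ((wMat chevF4 L).det : ZMod p) :=
  ((Int.castRingHom (ZMod p)).map_det _).symm

theorem md_pow {L : List ℕ} (hL : ∀ i ∈ L, i < chevF4.rank) : md p L ^ 1152 = 1 := by
  have h := congrArg (Int.castRingHom (ZMod p)).mapMatrix (pow_weyl hL)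
  rwa [map_pow, map_one] at h

theorem md_isometry {L : List ℕ} (hL : ∀ i ∈ L, i < chevF4.rank) :
    (md p L)ᵀ * ((corMat chevF4)ᵀ * corMat chevF4).map Int.cast * md p L =
      ((corMat chevF4)ᵀ * corMat chevF4).map Int.cast := by
  have h := congrArg (Int.castRingHom (ZMod p)).mapMatrix (wMat_isometry hC hL)
  simp only [map_mul, RingHom.mapMatrix_apply] at h
  exact h

theorem det_form (hp5 : 5 ≤ p) :
    ((((corMat chevF4)ᵀ * corMat chevF4).map Int.cast : Matrix _ _ (ZMod p))).det ≠ 0 := by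
  rw [show (((corMat chevF4)ᵀ * corMat chevF4).map (Int.cast : ℤ → ZMod p)).det =
    ((((corMat chevF4)ᵀ * corMat chevF4).det : ℤ) : ZMod p) from
      ((Int.castRingHom (ZMod p)).map_det _).symm, detS]
  intro h
  refine (not_dvd_small (Fact.out : p.Prime) hp5).2.2 ((ZMod.natCast_eq_zero_iff _ _).1 ?_)
  exact_mod_cast h

/-- The reflection in a root: a word of determinant minus one. -/
theorem exists_reflection {α : ℕ} (hα : α < chevF4.nroots) :
    ∃ N : List ℕ, (∀ i ∈ N, i < chevF4.rank) ∧ (wMat chevF4 N).det = -1 ∧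
      ∀ s < chevF4.nroots, ∃ c : ℤ,
        lam chevF4 (wL chevF4 N s) = lam chevF4 s - c • lam chevF4 α := by
  refine Root.simple_induction hC (P := fun α => ∃ N : List ℕ, (∀ i ∈ N, i < chevF4.rank) ∧
    (wMat chevF4 N).det = -1 ∧ ∀ s < chevF4.nroots, ∃ c : ℤ,
      lam chevF4 (wL chevF4 N s) = lam chevF4 s - c • lam chevF4 α)
    (fun i hi => ?_) (fun r hr i hi ih => ?_) α hα
  · refine ⟨[i], by simpa using hi, ?_, fun s hs => ⟨chevF4.cartan i s, ?_⟩⟩
    · simp [wMat, Weyl.det_refMat hC hi]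
    · funext j
      simp only [Pi.sub_apply, Pi.smul_apply, lam, smul_eq_mul]
      exact hC.cartan_reflect hi j.2 hs
  · obtain ⟨N, hN, hd, hf⟩ := ih
    have hN' : ∀ a ∈ [i] ++ N ++ [i], a < chevF4.rank := fun a ha => by
      simp only [List.mem_append, List.mem_singleton] at ha
      rcases ha with (rfl | h) | rfl
      exacts [hi, hN a h, hi]
    refine ⟨[i] ++ N ++ [i], hN', ?_, fun s hs => ?_⟩
    · rw [wMat_append, wMat_append, Matrix.det_mul, Matrix.det_mul, hd]
      simp [wMat, Weyl.det_refMat hC hi]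
    · have hw : wL chevF4 ([i] ++ N ++ [i]) s =
          chevF4.reflectRoot i (wL chevF4 N (chevF4.reflectRoot i s)) := by
        rw [wL_append, wL_append]; rfl
      have hs' := hC.reflect_lt hi hs
      obtain ⟨c, hc⟩ := hf _ hs'
      refine ⟨c, ?_⟩
      rw [hw, ← refMat_lam hC hi (wL_lt hC hN hs'), hc, Matrix.mulVec_sub, Matrix.mulVec_smul,
        refMat_lam hC hi hs', hC.reflect_reflect hi hs, refMat_lam hC hi hr]

/-- A reflection killed by an eigenvector gives an eigenvector for a word of opposite determinant. -/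
theorem exists_opposite {L : List ℕ} (hL : ∀ i ∈ L, i < chevF4.rank) {α : ℕ} (hα : α < chevF4.nroots) :
    ∃ L' : List ℕ, (∀ i ∈ L', i < chevF4.rank) ∧ (wMat chevF4 L').det = -(wMat chevF4 L).det ∧
      ∀ v : Fin chevF4.rank → ZMod p, ev v α = 0 → v ᵥ* md p L' = v ᵥ* md p L := by
  obtain ⟨N, hN, hd, hf⟩ := exists_reflection hα
  refine ⟨N ++ L, fun i hi => (List.mem_append.1 hi).elim (hN i) (hL i), ?_, fun v hv => ?_⟩
  · rw [wMat_append, Matrix.det_mul, hd, neg_one_mul]
  have h1 : v ᵥ* md p N = v := by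
    refine ev_ext Frame.det_unit fun j => ?_
    have hs := hC.simple_lt j.2
    rw [ev_vecMul hC v hN hs]
    obtain ⟨c, hc⟩ := hf _ hs
    rw [ev, hc, show (fun i => (((lam chevF4 (chevF4.simple j) - c • lam chevF4 α) i : ℤ) : ZMod p)) =
        (fun i => (lam chevF4 (chevF4.simple j) i : ZMod p)) -
          (c : ZMod p) • fun i => (lam chevF4 α i : ZMod p) from funext fun i => by simp,
      dotProduct_sub, dotProduct_smul]
    have h0 : v ⬝ᵥ (fun i => (lam chevF4 α i : ZMod p)) = 0 := hv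
    rw [h0, smul_zero, sub_zero]
    rfl
  have h2 : md p (N ++ L) = md p N * md p L := by
    rw [md, wMat_append]
    exact map_mul (Int.castRingHom (ZMod p)).mapMatrix _ _
  rw [h2, ← Matrix.vecMul_vecMul, h1]

/-- The linear coefficient of a cyclotomic polynomial of degree two. -/
def coefOf (e : ℕ) : ℤ := if e = 3 then 1 else if e = 4 then 0 else -1

theorem coefOf_mem (e : ℕ) : coefOf e = 1 ∨ coefOf e = 0 ∨ coefOf e = -1 := by
  unfold coefOf; split_ifs <;> simp

theorem coefOf_inj {a b : ℕ} (ha : a = 3 ∨ a = 4 ∨ a = 6) (hb : b = 3 ∨ b = 4 ∨ b = 6) (hab : a ≠ b) :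
    coefOf a ≠ coefOf b := by
  rcases ha with rfl | rfl | rfl <;> rcases hb with rfl | rfl | rfl <;>
    first | exact absurd rfl hab | decide

theorem quad_root {x : ZMod p} {e : ℕ} (he : e = 3 ∨ e = 4 ∨ e = 6) (h : orderOf x = e) :
    x ^ 2 + (coefOf e : ZMod p) * x + 1 = 0 := by
  have hne : ∀ j, 0 < j → j < e → x ^ j ≠ 1 := fun j hj hje hx => by
    have := Nat.le_of_dvd hj (h ▸ orderOf_dvd_of_pow_eq_one hx)
    omega
  have hpow : x ^ e = 1 := h ▸ pow_orderOf_eq_one x
  rcases he with rfl | rfl | rfl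
  · have h1 : (x - 1) * (x ^ 2 + x + 1) = 0 := by linear_combination hpow
    have h2 := (mul_eq_zero.1 h1).resolve_left (sub_ne_zero.2 (by simpa using hne 1 one_pos (by norm_num)))
    rw [show coefOf 3 = 1 from rfl, Int.cast_one, one_mul]
    exact h2
  · have h1 : (x ^ 2 - 1) * (x ^ 2 + 1) = 0 := by linear_combination hpow
    have h2 := (mul_eq_zero.1 h1).resolve_left (sub_ne_zero.2 (hne 2 two_pos (by norm_num)))
    rw [show coefOf 4 = 0 from rfl, Int.cast_zero, zero_mul, add_zero]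
    exact h2
  · have h1 : (x ^ 3 - 1) * (x + 1) * (x ^ 2 - x + 1) = 0 := by linear_combination hpow
    have h2 : (x + 1) ≠ 0 := fun h0 => hne 2 two_pos (by norm_num)
      (by rw [eq_neg_of_add_eq_zero_left h0]; ring)
    have h3 := (mul_eq_zero.1 h1).resolve_left
      (mul_ne_zero (sub_ne_zero.2 (hne 3 three_pos (by norm_num))) h2)
    rw [show coefOf 6 = -1 from rfl, Int.cast_neg, Int.cast_one]
    linear_combination h3

/-- The quadratic polynomial with its cofactor in `X ^ 1152 - 1`. -/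
theorem exists_cofactor (e : ℕ) :
    ∃ g : ℤ[X], (X ^ 2 + C (coefOf e) * X + 1) * g = X ^ 1152 - 1 := by
  have key : (X ^ 2 + C (coefOf e) * X + 1 : ℤ[X]) ∣ X ^ 12 - 1 := by
    rcases coefOf_mem e with h | h | h <;> rw [h]
    · exact ⟨(X - 1) * (X ^ 3 + 1) * (X ^ 6 + 1), by simp; ring⟩
    · exact ⟨(X ^ 2 - 1) * (X ^ 8 + X ^ 4 + 1), by simp; ring⟩
    · exact ⟨(X + 1) * (X ^ 3 - 1) * (X ^ 6 + 1), by simp; ring⟩
  obtain ⟨g, hg⟩ := key.trans (sub_one_dvd_pow_sub_one (X ^ 12 : ℤ[X]) 96)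
  exact ⟨g, by rw [← hg, ← pow_mul]⟩

theorem aeval_quad (c : ℤ) (L : List ℕ) :
    aeval (wMat chevF4 L) (X ^ 2 + C c * X + 1) = Weyl.quad c L := by
  simp [Weyl.quad, pow_two, Algebra.smul_def]

/-- One eigenvector makes the quadratic polynomial singular. -/
theorem det_quad {L : List ℕ} (hL : ∀ i ∈ L, i < chevF4.rank) {q : ZMod p} {e : ℕ}
    (he : e = 3 ∨ e = 4 ∨ e = 6) (hq : orderOf q = e) (hp5 : 5 ≤ p)
    {v : Fin chevF4.rank → ZMod p} (hv0 : v ≠ 0) (hv : v ᵥ* md p L = q • v) :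
    (Weyl.quad (coefOf e) L).det = 0 := by
  obtain ⟨g, hg⟩ := exists_cofactor e
  rw [← aeval_quad]
  refine Linear.det_aeval_eq_zero hg (pow_weyl hL) (not_dvd_small (Fact.out : p.Prime) hp5).1 ?_ hv0 hv
  simpa using quad_root he hq

/-- The product of two shifts of a matrix. -/
theorem quad_factor (A : Matrix (Fin chevF4.rank) (Fin chevF4.rank) (ZMod p)) {q q' c : ZMod p}
    (hc : c = -q - q') (hqq : q * q' = 1) :
    (A - q' • 1) * (A - q • 1) = A * A + c • A + 1 := by
  simp only [Matrix.sub_mul, Matrix.mul_sub, Matrix.smul_mul, Matrix.mul_smul, Matrix.one_mul,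
    Matrix.mul_one, hc]
  match_scalars <;> first | linear_combination hqq | linear_combination -hqq | ring

/-- Two independent eigenvectors. -/
theorem two {L : List ℕ} (hL : ∀ i ∈ L, i < chevF4.rank) {q : ZMod p} {e : ℕ}
    (he : e = 3 ∨ e = 4 ∨ e = 6) (hq : orderOf q = e) (hp5 : 5 ≤ p)
    {V : Matrix (Fin 2) (Fin chevF4.rank) (ZMod p)} (hV : LinearIndependent (ZMod p) fun i => V i)
    (hVA : V * md p L = q • V) :
    ((wMat chevF4 L).det : ZMod p) = 1 ∧ Weyl.quad (coefOf e) L = 0 := by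
  have hroot := quad_root he hq
  obtain ⟨q', hq'⟩ : ∃ q', q' = -(coefOf e : ZMod p) - q := ⟨_, rfl⟩
  have hqq : q * q' = 1 := by rw [hq']; linear_combination -hroot
  have hne : q ≠ q' := fun h => by
    have h2 : q ^ 2 = 1 := by rw [pow_two]; nth_rewrite 2 [h]; exact hqq
    have := Nat.le_of_dvd two_pos (hq ▸ orderOf_dvd_of_pow_eq_one h2)
    omega
  obtain ⟨h1, h2⟩ := Linear.two_eigen (k := ZMod p) (by rw [Fintype.card_fin]; rfl) (m := 1152)
    (by norm_num) (md_pow hL) (det_form hp5) (md_isometry hL) hqq hne hV hVA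
  refine ⟨by rw [← det_md]; exact h1, ?_⟩
  obtain ⟨g, hg⟩ := exists_cofactor e
  rw [← aeval_quad]
  refine Linear.aeval_eq_zero hg (pow_weyl hL) (not_dvd_small (Fact.out : p.Prime) hp5).1 ?_
  rw [← h2, quad_factor (md p L) (c := (coefOf e : ZMod p)) (by rw [hq']; ring) hqq]
  simp [pow_two, Algebra.smul_def, md]

/-- A vanishing quadratic polynomial has an eigenvector for each of its roots. -/
theorem exists_eigen {L : List ℕ} (hL : ∀ i ∈ L, i < chevF4.rank) {q : ZMod p} {c : ℤ}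
    (hroot : q ^ 2 + (c : ZMod p) * q + 1 = 0) (hp5 : 5 ≤ p) (h : Weyl.quad c L = 0) :
    ∃ v : Fin chevF4.rank → ZMod p, v ≠ 0 ∧ v ᵥ* md p L = q • v := by
  obtain ⟨q', hq'⟩ : ∃ q', q' = -(c : ZMod p) - q := ⟨_, rfl⟩
  have hqq : q * q' = 1 := by rw [hq']; linear_combination -hroot
  have h0 : md p L * md p L + (c : ZMod p) • md p L + 1 = 0 := by
    have h1 := congrArg (Int.castRingHom (ZMod p)).mapMatrix h
    rw [map_zero, Weyl.quad, map_add, map_add, map_mul, map_one, map_zsmul] at h1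
    rw [← Int.cast_smul_eq_zsmul (ZMod p)] at h1
    exact h1
  have h2 : (md p L - q' • 1) * (md p L - q • 1) = 0 := by
    rw [quad_factor (md p L) (c := (c : ZMod p)) (by rw [hq']; ring) hqq, h0]
  have h3 : (md p L - q • 1).det = 0 := by
    have h4 := congrArg Matrix.det h2
    haveI : Nonempty (Fin chevF4.rank) := ⟨⟨0, by decide +kernel⟩⟩
    rw [Matrix.det_mul, Matrix.det_zero] at h4
    rcases mul_eq_zero.1 h4 with h5 | h5
    · exact Linear.det_shift (A := md p L) (q := q) (q' := q') (det_form hp5) (md_isometry hL) hqq h5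
    · exact h5
  obtain ⟨v, hv0, hv⟩ := Matrix.exists_vecMul_eq_zero_iff.2 h3
  refine ⟨v, hv0, ?_⟩
  rwa [Matrix.vecMul_sub, Matrix.vecMul_smul, Matrix.vecMul_one, sub_eq_zero] at hv

/-- The eigenvectors of orders eight and twelve: the characteristic polynomial and the determinant. -/
theorem big {L : List ℕ} (hL : ∀ i ∈ L, i < chevF4.rank) {q : ℕ} {d : ℕ} (hd : d = 8 ∨ d = 12)
    (hq : orderOf (q : ZMod p) = d) (hp5 : 5 ≤ p) {v : Fin chevF4.rank → ZMod p} (hv0 : v ≠ 0)
    (hv : v ᵥ* md p L = (q : ZMod p) • v) :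
    (wMat chevF4 L).charpoly = cyclotomic d ℤ ∧ (wMat chevF4 L).det = 1 := by
  have hdt : d.totient = chevF4.rank := by rcases hd with rfl | rfl <;> decide +kernel
  have hcp := charpoly_eq (pow_weyl hL) (not_dvd_small (Fact.out : p.Prime) hp5).1 hq hdt hv0 hv
  refine ⟨hcp, ?_⟩
  rw [Matrix.det_eq_sign_charpoly_coeff, hcp, Fintype.card_fin,
    cyclotomic_coeff_zero ℤ (by omega : 1 < d), AltSection.WeylF4.rank_eq]
  norm_num

/-- The eigenvalues modulo a prime of a matrix with cyclotomic characteristic polynomial. -/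
theorem eigen_iff {L : List ℕ} {d : ℕ} (hcp : (wMat chevF4 L).charpoly = cyclotomic d ℤ)
    (q : ZMod p) :
    (∃ v : Fin chevF4.rank → ZMod p, v ≠ 0 ∧ v ᵥ* md p L = q • v) ↔
      (cyclotomic d (ZMod p)).IsRoot q := by
  have h1 : (md p L).charpoly = cyclotomic d (ZMod p) := by
    rw [md, show (wMat chevF4 L).map (Int.cast : ℤ → ZMod p) =
      (wMat chevF4 L).map (Int.castRingHom (ZMod p)) from rfl, Matrix.charpoly_map, hcp,
      map_cyclotomic]
  rw [IsRoot, ← h1, Matrix.eval_charpoly, ← Matrix.exists_vecMul_eq_zero_iff]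
  refine exists_congr fun v => and_congr_right fun _ => ?_
  rw [Matrix.scalar_apply, ← Matrix.smul_one_eq_diagonal, Matrix.vecMul_sub, Matrix.vecMul_smul,
    Matrix.vecMul_one, sub_eq_zero, eq_comm]

end Cfsg.Agent.Chevalley.F4Graph.Eigen
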