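import Cfsg.Agent.Lib.Chevalley.F4Graph.Weyl
import Cfsg.Agent.Lib.Chevalley.AltSection.F4
import Cfsg.Agent.Lib.Chevalley.Singer.Main
import Cfsg.Agent.SimpleFacts.AbelianSylow.Twist
import Cfsg.Agent.SimpleFacts.AbelianSylow.Lattice

/-!
Elements of prime order of the fixed group in a twisted torus of type F4, as residue vectors.
-/

set_option autoImplicit false
set_option linter.unusedSectionVars false

open scoped Matrix

namespace Cfsg.Agent.Chevalley.F4Graph.Frame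

open Cfsg.Lie Cfsg.Agent.Chevalley Cfsg.Agent.Chevalley.Table Cfsg.Agent.Chevalley.Cert
  Cfsg.Agent.Chevalley.Group Cfsg.Agent.Chevalley.Borel Cfsg.Agent.Chevalley.TorusCard
  Cfsg.Agent.Chevalley.FieldAut Cfsg.Agent.Chevalley.FieldFix Cfsg.Agent.Chevalley.Singer
  Cfsg.Agent.SimpleFacts.AbelianSylow.Lattice

abbrev hC : Certified chevF4 Data.F4.tab := Types.F4.certified

variable {F K : Type*} [Field F] [Fintype F] [Field K] [Fintype K]

/-- The extension of degree 24 with its Frobenius map. -/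
structure Ext (q : ℕ) (f : F →+* K) (σ : K →+* K) : Prop where
  frob : ∀ x, σ x = x ^ q
  on_base : ∀ t, σ (f t) = f t
  fixed : ∀ t, σ t = t → t ∈ Set.range f
  card : Fintype.card K = q ^ 24

theorem exists_ext [CharP F 2] {q : ℕ}
    (hq : Fintype.card F = q) :
    ∃ (K : Type) (_ : Field K) (_ : Fintype K) (f : F →+* K) (σ : K →+* K), Ext q f σ := by
  classical
  haveI : Fact (Nat.Prime 2) := ⟨Nat.prime_two⟩
  obtain ⟨K, _, _, f, hK⟩ := AltSection.F4.exists_extension (F := F) 2 (n := 24) (by norm_num)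
  haveI : CharP K 2 := charP_of_injective_ringHom f.injective 2
  obtain ⟨n, -, hn⟩ := FiniteField.card F 2
  refine ⟨K, inferInstance, inferInstance, f, iterateFrobenius K 2 n, fun x => ?_, fun t => ?_,
    fun t ht => ?_, hq ▸ hK⟩
  · rw [iterateFrobenius_def, ← hq, hn]
  · rw [iterateFrobenius_def, ← hn, ← map_pow, FiniteField.pow_card]
  · rw [iterateFrobenius_def, ← hn, hq] at ht
    by_contra hne
    have hq2 : 1 < q := hq ▸ Fintype.one_lt_card
    have h1 : (insert t ((Finset.univ : Finset F).image f)).card ≤ q := by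
      refine (Polynomial.card_le_degree_of_subset_roots ?_).trans
        (FiniteField.X_pow_card_sub_X_natDegree_eq K hq2).le
      intro x hx
      rw [Finset.mem_val, Finset.mem_insert, Finset.mem_image] at hx
      rw [Polynomial.mem_roots (FiniteField.X_pow_card_sub_X_ne_zero K hq2), Polynomial.IsRoot]
      rcases hx with rfl | ⟨a, -, rfl⟩
      · simp [ht]
      · simp [← map_pow, ← hq, FiniteField.pow_card]
    rw [Finset.card_insert_of_notMem (by simpa using hne),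
      Finset.card_image_of_injective _ f.injective, Finset.card_univ, hq] at h1
    omega

variable {p : ℕ} [Fact p.Prime]

/-- The torus parameters of a residue vector. -/
def cv (ζ : Kˣ) (v : Fin chevF4.rank → ZMod p) : ℕ → Kˣ := fun i =>
  if h : i < chevF4.rank then ζ ^ ((v ⟨i, h⟩).val : ℤ) else 1

variable {ζ : Kˣ} (hζ : orderOf ζ = p)

theorem sum_ev (v : Fin chevF4.rank → ZMod p) (s : ℕ) :
    ((∑ i : Fin chevF4.rank, ((v i).val : ℤ) * chevF4.cartan i s : ℤ) : ZMod p) = ev v s := by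
  simp [ev, dotProduct, lam]

theorem char_cv (v : Fin chevF4.rank → ZMod p) (s : ℕ) : torChar chevF4 (cv ζ v) s =
    ζ ^ (∑ i : Fin chevF4.rank, ((v i).val : ℤ) * chevF4.cartan i s) := by
  rw [← prod_zpow_sum, torChar,
    ← Fin.prod_univ_eq_prod_range fun i => cv ζ v i ^ chevF4.cartan i s]
  refine Finset.prod_congr rfl fun i _ => ?_
  rw [zpow_mul]
  simp only [cv, dif_pos i.2]

include hζ

theorem zpow_eq_iff (a a' : ℤ) : ζ ^ a = ζ ^ a' ↔ (a : ZMod p) = (a' : ZMod p) := by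
  rw [zpow_eq_zpow_iff_modEq, hζ, ZMod.intCast_eq_intCast_iff]

theorem char_eq_iff (v w : Fin chevF4.rank → ZMod p) (s t : ℕ) :
    torChar chevF4 (cv ζ v) s = torChar chevF4 (cv ζ w) t ↔ ev v s = ev w t := by
  rw [char_cv, char_cv, zpow_eq_iff hζ, sum_ev, sum_ev]

theorem char_one_iff (v : Fin chevF4.rank → ZMod p) (s : ℕ) :
    torChar chevF4 (cv ζ v) s = 1 ↔ ev v s = 0 := by
  rw [char_cv, ← zpow_zero ζ, zpow_eq_iff hζ, Int.cast_zero, sum_ev]

theorem tor_add (v w : Fin chevF4.rank → ZMod p) :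
    tor chevF4 (cv ζ (v + w)) = tor chevF4 (cv ζ v) * tor chevF4 (cv ζ w) := by
  rw [tor_mul]
  refine dg_congr fun s _ => ?_
  have : torChar chevF4 (cv ζ v * cv ζ w) s = torChar chevF4 (cv ζ v) s * torChar chevF4 (cv ζ w) s := by
    simp only [torChar, Pi.mul_apply, mul_zpow, Finset.prod_mul_distrib]
  rw [this, char_cv, char_cv, char_cv, ← zpow_add, zpow_eq_iff hζ, Int.cast_add, sum_ev, sum_ev,
    sum_ev, ev_add]

theorem tor_zero : tor chevF4 (cv ζ (0 : Fin chevF4.rank → ZMod p)) = 1 := by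
  refine mul_left_cancel (a := tor chevF4 (cv ζ (0 : Fin chevF4.rank → ZMod p))) ?_
  rw [mul_one, ← tor_add hζ, add_zero]

theorem tor_nsmul (v : Fin chevF4.rank → ZMod p) (j : ℕ) :
    tor chevF4 (cv ζ (j • v)) = tor chevF4 (cv ζ v) ^ j := by
  induction j with
  | zero => rw [zero_smul, pow_zero, tor_zero hζ]
  | succ j ih => rw [succ_nsmul, tor_add hζ, ih, pow_succ]

omit hζ in
theorem det_unit : IsUnit (((cartanMat chevF4).det : ℤ) : ZMod p) :=
  Weyl.cartan_isUnit.map (Int.castRingHom (ZMod p))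

theorem tor_inj {v w : Fin chevF4.rank → ZMod p}
    (h : tor chevF4 (cv ζ v) = tor chevF4 (cv ζ w)) : v = w := by
  refine ev_ext det_unit fun j => ?_
  rw [← char_eq_iff hζ]
  exact AltSection.torChar_eq hC h (hC.simple_lt j.2)

/-- The elements of order dividing `p` of the torus. -/
theorem exists_residue {t : GL chevF4.Idx K} (ht : t ∈ chevF4.diagonalSubgroup K) (htp : t ^ p = 1) :
    ∃ v : Fin chevF4.rank → ZMod p, t = tor chevF4 (cv ζ v) := by
  obtain ⟨c, rfl⟩ := (mem_H_iff hC).1 ht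
  obtain ⟨cF, hcF⟩ : ∃ cF : Fin chevF4.rank → Kˣ, cF = fun i : Fin chevF4.rank => c i := ⟨_, rfl⟩
  have hcr : cF ^ p = 1 := by
    apply torHom_inj hC Weyl.cartan_isUnit
    rw [map_pow, map_one, hcF, tor_eq_torHom hC, htp]
  have hex : ∀ i, ∃ a : ℕ, cF i = ζ ^ a := fun i => by
    have hp' : IsPrimitiveRoot (ζ : K) p := by
      rw [← hζ, ← orderOf_units]; exact IsPrimitiveRoot.orderOf _
    obtain ⟨a, -, ha⟩ := hp'.eq_pow_of_pow_eq_one (ξ := (cF i : K))
      (by rw [← Units.val_pow_eq_pow_val, ← Pi.pow_apply, hcr]; simp)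
    exact ⟨a, Units.ext (by rw [Units.val_pow_eq_pow_val, ha])⟩
  choose a ha using hex
  refine ⟨fun i => (a i : ZMod p), dg_congr fun s _ => ?_⟩
  refine Finset.prod_congr rfl fun i hi => ?_
  rw [Finset.mem_range] at hi
  congr 1
  rw [cv, dif_pos hi, show c i = cF ⟨i, hi⟩ by rw [hcF], ha, ← zpow_natCast,
    zpow_eq_iff hζ, Int.cast_natCast, Int.cast_natCast, ZMod.natCast_zmod_val]

omit hζ

/-- Data of a twisted torus: a conjugator, the word and the supports of its unipotent parts. -/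
structure TorusData (σ : K →+* K) where
  gv : GL chevF4.Idx K
  mem : gv ∈ chevF4.group K
  L : List ℕ
  lt : ∀ i ∈ L, i < chevF4.rank
  S : Finset ℕ
  S' : Finset ℕ
  S_lt : ∀ s ∈ S, s < chevF4.nroots
  S'_lt : ∀ s ∈ S', s < chevF4.nroots
  iff : ∀ c c' : ℕ → Kˣ, ((gv⁻¹ * mapGL chevF4 σ gv) * tor chevF4 c' *
      (gv⁻¹ * mapGL chevF4 σ gv)⁻¹ = tor chevF4 c ↔
    (∀ s ∈ S, torChar chevF4 c s = 1) ∧ (∀ s ∈ S', torChar chevF4 c' s = 1) ∧
      ∀ s < chevF4.nroots, torChar chevF4 c (wL chevF4 L s) = torChar chevF4 c' s)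

omit [Fintype K] in
theorem exists_data (σ : K →+* K) {gv : GL chevF4.Idx K} (hg : gv ∈ chevF4.group K) :
    ∃ d : TorusData σ, d.gv = gv := by
  obtain ⟨L, hL, S, S', hS, hS', h⟩ := SimpleFacts.AbelianSylow.Twist.exists_twist hC
    (mul_mem (inv_mem hg) (map_mem_group σ hg) : gv⁻¹ * mapGL chevF4 σ gv ∈ chevF4.group K)
  exact ⟨⟨gv, hg, L, hL, S, S', hS, hS', h⟩, rfl⟩

variable {q : ℕ} {f : F →+* K} {σ : K →+* K} (hE : Ext q f σ) (d : TorusData σ)

/-- The roots occurring in the supports. -/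
def TorusData.sup : Finset ℕ := d.S ∪ d.S'

/-- The matrix of the word, over the prime field. -/
def TorusData.mat (p : ℕ) : Matrix (Fin chevF4.rank) (Fin chevF4.rank) (ZMod p) :=
  (wMat chevF4 d.L).map Int.cast

theorem TorusData.sup_lt : ∀ s ∈ d.sup, s < chevF4.nroots := fun s hs =>
  (Finset.mem_union.1 hs).elim (d.S_lt s) (d.S'_lt s)

include hζ hE

theorem map_cv (v : Fin chevF4.rank → ZMod p) :
    mapGL chevF4 σ (tor chevF4 (cv ζ v)) = tor chevF4 (cv ζ ((q : ZMod p) • v)) := by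
  rw [mapGL_tor]
  refine dg_congr fun s _ => ?_
  have : torChar chevF4 (fun i => Units.map (σ : K →* K) (cv ζ v i)) s =
      torChar chevF4 (cv ζ v) s ^ q := by
    simp only [torChar, ← Finset.prod_pow]
    refine Finset.prod_congr rfl fun i _ => ?_
    rw [show Units.map (σ : K →* K) (cv ζ v i) = cv ζ v i ^ q from Units.ext (by simp [hE.frob]),
      ← zpow_natCast (cv ζ v i ^ chevF4.cartan i s), ← zpow_natCast (cv ζ v i), ← zpow_mul,
      ← zpow_mul, mul_comm]
  rw [this, char_cv, char_cv, ← zpow_natCast, ← zpow_mul, zpow_eq_iff hζ, Int.cast_mul, sum_ev,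
    Int.cast_natCast, sum_ev, ev_smul, mul_comm]

/-- The fixed conjugates of residue elements are the eigenvectors of the word. -/
theorem fixed_iff (hqp : (q : ZMod p) ≠ 0) (v : Fin chevF4.rank → ZMod p) :
    mapGL chevF4 σ (d.gv * tor chevF4 (cv ζ v) * d.gv⁻¹) = d.gv * tor chevF4 (cv ζ v) * d.gv⁻¹ ↔
      v ∈ eig (D := chevF4) d.L (q : ZMod p) d.sup := by
  obtain ⟨n0, hn0⟩ : ∃ n0, n0 = d.gv⁻¹ * mapGL chevF4 σ d.gv := ⟨_, rfl⟩
  have e1 : mapGL chevF4 σ (d.gv * tor chevF4 (cv ζ v) * d.gv⁻¹) =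
      d.gv * (n0 * tor chevF4 (cv ζ ((q : ZMod p) • v)) * n0⁻¹) * d.gv⁻¹ := by
    rw [map_mul, map_mul, map_inv, map_cv hζ hE, hn0]; group
  rw [e1, mul_left_inj, mul_right_inj, hn0, d.iff, mem_eig_iff hC det_unit d.lt]
  simp only [char_one_iff hζ, char_eq_iff hζ, ev_smul, TorusData.sup, Finset.mem_union]
  constructor
  · rintro ⟨h1, h2, h3⟩
    exact ⟨fun s hs => hs.elim (h1 s) fun h => (mul_eq_zero.1 (h2 s h)).resolve_left hqp, h3⟩
  · rintro ⟨h1, h3⟩
    exact ⟨fun s hs => h1 s (Or.inl hs), fun s hs => by rw [h1 s (Or.inr hs), mul_zero], h3⟩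

/-- An element of order `p` whose conjugate lies in the torus gives an eigenvector. -/
theorem exists_vector (hqp : (q : ZMod p) ≠ 0) {y : chevF4.group F} (hy : y ^ p = 1)
    (hyT : d.gv⁻¹ * mapGL chevF4 f (y : GL chevF4.Idx F) * d.gv ∈ chevF4.diagonalSubgroup K) :
    ∃ v ∈ eig (D := chevF4) d.L (q : ZMod p) d.sup,
      mapGL chevF4 f (y : GL chevF4.Idx F) = d.gv * tor chevF4 (cv ζ v) * d.gv⁻¹ := by
  obtain ⟨v, hv⟩ := exists_residue hζ hyT (by
    have h1 : mapGL chevF4 f (y : GL chevF4.Idx F) ^ p = 1 := by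
      rw [← map_pow, ← SubgroupClass.coe_pow, hy]; simp
    rw [show d.gv⁻¹ * mapGL chevF4 f (y : GL chevF4.Idx F) * d.gv =
      d.gv⁻¹ * mapGL chevF4 f (y : GL chevF4.Idx F) * d.gv⁻¹⁻¹ by rw [inv_inv], conj_pow, h1]
    group)
  have e : mapGL chevF4 f (y : GL chevF4.Idx F) = d.gv * tor chevF4 (cv ζ v) * d.gv⁻¹ := by
    rw [← hv]; group
  refine ⟨v, (fixed_iff hζ hE d hqp v).1 ?_, e⟩
  rw [← e]
  exact Units.ext (Matrix.ext fun a b => hE.on_base _)

/-- An eigenvector gives an element of order `p`. -/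
theorem exists_element (hqp : (q : ZMod p) ≠ 0) {v : Fin chevF4.rank → ZMod p} (hv0 : v ≠ 0)
    (hv : v ∈ eig (D := chevF4) d.L (q : ZMod p) d.sup) :
    ∃ x : chevF4.group F, orderOf x = p ∧
      d.gv⁻¹ * mapGL chevF4 f (x : GL chevF4.Idx F) * d.gv ∈ chevF4.diagonalSubgroup K := by
  have hG : d.gv * tor chevF4 (cv ζ v) * d.gv⁻¹ ∈ chevF4.group K :=
    mul_mem (mul_mem d.mem (H_le_group hC (tor_mem_H hC _))) (inv_mem d.mem)
  obtain ⟨x, hx, hxe⟩ := group_fixed hC f σ hE.fixed (torHom_inj hC Weyl.cartan_isUnit) hG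
    ((fixed_iff hζ hE d hqp v).2 hv)
  refine ⟨⟨x, hx⟩, orderOf_eq_prime (Subtype.ext (mapGL_injective f ?_)) fun h => hv0 ?_, ?_⟩
  · rw [SubgroupClass.coe_pow, map_pow, hxe, conj_pow, ← tor_nsmul hζ]
    rw [show p • v = 0 by funext i; simp, tor_zero hζ]
    simp
  · refine tor_inj hζ ?_
    rw [tor_zero hζ]
    have h1 : x = 1 := congrArg Subtype.val h
    rw [h1, map_one] at hxe
    rw [show tor chevF4 (cv ζ v) = d.gv⁻¹ * (d.gv * tor chevF4 (cv ζ v) * d.gv⁻¹) * d.gv by group,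
      ← hxe]
    group
  · show d.gv⁻¹ * mapGL chevF4 f x * d.gv ∈ _
    rw [hxe, show d.gv⁻¹ * (d.gv * tor chevF4 (cv ζ v) * d.gv⁻¹) * d.gv = tor chevF4 (cv ζ v) by
      group]
    exact tor_mem_H hC _

omit hζ

/-- Two elements whose conjugates lie in the torus commute. -/
theorem commute_of_torus {x y : chevF4.group F}
    (hx : d.gv⁻¹ * mapGL chevF4 f (x : GL chevF4.Idx F) * d.gv ∈ chevF4.diagonalSubgroup K)
    (hy : d.gv⁻¹ * mapGL chevF4 f (y : GL chevF4.Idx F) * d.gv ∈ chevF4.diagonalSubgroup K) :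
    Commute x y := by
  have h1 := H_comm hC hx hy
  refine Subtype.ext (mapGL_injective f ?_)
  rw [Subgroup.coe_mul, Subgroup.coe_mul, map_mul, map_mul]
  calc _ = d.gv * ((d.gv⁻¹ * mapGL chevF4 f (x : GL chevF4.Idx F) * d.gv) *
        (d.gv⁻¹ * mapGL chevF4 f (y : GL chevF4.Idx F) * d.gv)) * d.gv⁻¹ := by group
    _ = _ := by rw [h1]; group

end Cfsg.Agent.Chevalley.F4Graph.Frame
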