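import Cfsg.Agent.SimpleFacts.BorelTits.ParabolicCard
import Cfsg.Agent.Lib.Chevalley.SL2
import Cfsg.Agent.Lib.Chevalley.Parabolic
import Cfsg.Agent.Lib.Chevalley.Types.OrderF4
import Cfsg.Agent.Lib.Chevalley.Types.CoefF4
import Cfsg.Agent.SimpleFacts.AbelianSylow.Twist
import Cfsg.Agent.Lib.Classical.Linear
import Cfsg.Agent.Lib.Chevalley.Poincare
import Mathlib.LinearAlgebra.Matrix.GeneralLinearGroup.Card
import Mathlib.Algebra.Group.Subgroup.Pointwise

/-!
The Levi subgroup of type C3 in the group of type F4 in characteristic two and the long root subgroup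
of rank one centralising it: commuting elements of small primitive orders.
-/

set_option autoImplicit false
set_option linter.unusedSectionVars false
set_option maxRecDepth 100000

open scoped Pointwise

namespace Cfsg.Agent.Chevalley.F4Graph.Levi

open Cfsg.Lie Cfsg.Agent.Chevalley Cfsg.Agent.Chevalley.Table Cfsg.Agent.Chevalley.Cert
  Cfsg.Agent.Chevalley.Group Cfsg.Agent.Chevalley.Unip Cfsg.Agent.Chevalley.Borel
  Cfsg.Agent.Chevalley.Eval Cfsg.Agent.SimpleFacts.BorelTits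

abbrev hC : Certified chevF4 Data.F4.tab := Types.F4.certified

/-- The words of the Weyl group of the Levi subgroup. -/
abbrev words : List (List ℕ) := [[], [0], [1], [2], [1, 0], [2, 0], [0, 1], [2, 1], [1, 2], [0, 1, 0], [2, 1, 0], [1, 2, 0], [2, 0, 1], [1, 2, 1], [0, 1, 2], [2, 1, 2], [2, 0, 1, 0], [1, 2, 1, 0], [0, 1, 2, 0], [2, 1, 2, 0], [1, 2, 0, 1], [0, 1, 2, 1], [2, 1, 2, 1], [2, 0, 1, 2], [1, 2, 0, 1, 0], [0, 1, 2, 1, 0], [2, 1, 2, 1, 0], [2, 0, 1, 2, 0], [0, 1, 2, 0, 1], [2, 1, 2, 0, 1], [2, 0, 1, 2, 1], [1, 2, 0, 1, 2], [0, 1, 2, 0, 1, 0], [2, 1, 2, 0, 1, 0], [2, 0, 1, 2, 1, 0], [1, 2, 0, 1, 2, 0], [2, 0, 1, 2, 0, 1], [1, 2, 0, 1, 2, 1], [2, 1, 2, 0, 1, 2], [2, 0, 1, 2, 0, 1, 0], [1, 2, 0, 1, 2, 1, 0], [2, 1, 2, 0, 1, 2, 0], [1, 2, 0, 1, 2, 0, 1], [2, 1, 2, 0, 1, 2, 1], [1, 2, 0, 1, 2, 0, 1, 0], [2, 1, 2, 0, 1, 2, 1, 0], [2, 1, 2, 0, 1, 2, 0, 1], [2, 1, 2, 0, 1, 2, 0, 1, 0]]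

theorem words_ok : (∀ i ∈ [0, 1, 2], i < Data.F4.tab.l) ∧
    (∀ e ∈ words, ∀ i ∈ e, i ∈ [0, 1, 2]) ∧ [] ∈ words ∧
      (∀ e ∈ words, ∀ i ∈ [0, 1, 2], ∃ e' ∈ words, simpleImg Data.F4.tab (i :: e) = simpleImg Data.F4.tab e') ∧
      (words.map (simpleImg Data.F4.tab)).Nodup ∧
      words.map (negCount Data.F4.tab) = words.map List.length := by decide +kernel

theorem wordList : WordList Data.F4.tab [0, 1, 2] words :=
  ⟨words_ok.1, words_ok.2.1, words_ok.2.2.1, words_ok.2.2.2.1, words_ok.2.2.2.2.1⟩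

/-- The letters of the Levi subgroup. -/
abbrev J : Set ℕ := {i | i ∈ [0, 1, 2]}

variable {F : Type*} [Field F] [Fintype F]

theorem poly_words : Poincare.genP (words.map List.length) =
    Poincare.prodP [[1, 1], [1, 1, 1, 1], [1, 1, 1, 1, 1, 1]] := by decide +kernel

theorem sum_of_poly {W : List (List ℕ)} (hW : Poincare.genP (W.map List.length) =
    Poincare.prodP [[1, 1], [1, 1, 1, 1], [1, 1, 1, 1, 1, 1]]) (x : ℕ) :
    (W.map fun e => x ^ e.length).sum =
      (x + 1) * (x ^ 3 + x ^ 2 + x + 1) * (x ^ 5 + x ^ 4 + x ^ 3 + x ^ 2 + x + 1) := by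
  have h := congrArg (fun p => Poincare.evalP p (x : ℤ)) hW
  simp only [Poincare.eval_genP, Poincare.eval_prodP, List.map_map, List.map_cons, List.map_nil,
    List.prod_cons, List.prod_nil, mul_one] at h
  have h' : (((W.map fun e => x ^ e.length).sum : ℕ) : ℤ) =
      Poincare.evalP [1, 1] x * (Poincare.evalP [1, 1, 1, 1] x * Poincare.evalP [1, 1, 1, 1, 1, 1] x) := by
    rw [← h, Nat.cast_list_sum, List.map_map]
    exact congrArg List.sum (List.map_congr_left fun e _ => by simp)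
  simp only [Poincare.evalP, List.foldr_cons, List.foldr_nil] at h'
  have h'' : (((W.map fun e => x ^ e.length).sum : ℕ) : ℤ) =
      (((x + 1) * (x ^ 3 + x ^ 2 + x + 1) * (x ^ 5 + x ^ 4 + x ^ 3 + x ^ 2 + x + 1) : ℕ) : ℤ) := by
    rw [h']; push_cast; ring
  exact_mod_cast h''

theorem sum_negCount {W : List (List ℕ)} (hW : W.map (negCount Data.F4.tab) = W.map List.length) (x : ℕ) :
    (W.map fun e => x ^ negCount Data.F4.tab e).sum = (W.map fun e => x ^ e.length).sum := by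
  have := congrArg (fun l => (l.map fun k => x ^ k).sum) hW
  simpa [List.map_map, Function.comp_def] using this

theorem card_parabolic_eq {q : ℕ} (hq : Fintype.card F = q) :
    Nat.card (chevF4.parabolicSubgroup F J) =
      q ^ 24 * (q - 1) * ((q ^ 2 - 1) * (q ^ 4 - 1) * (q ^ 6 - 1)) := by
  have hB : Nat.card (chevF4.borelSubgroup F) = q ^ 24 * (q - 1) ^ 4 := by
    have hH := Types.OrderF4.card_H F
    rw [show (∏ i, Nat.gcd (Fintype.card F - 1) (Types.OrderF4.ed i)) = 1 by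
      simp [Types.OrderF4.ed, Fin.prod_univ_four], one_mul] at hH
    rw [Order.card_B hC, Count.card_U hC, Count.card_posRoots hC,
      show chevF4.nroots / 2 = 24 by decide +kernel, Nat.card_eq_fintype_card, hq, hH, hq]
  rw [card_parabolic hC wordList, hB, hq, sum_negCount words_ok.2.2.2.2.2 q, sum_of_poly poly_words q]
  have hq1 : 1 ≤ q := hq ▸ Fintype.card_pos
  generalize q = x at hq1 ⊢
  have h1 := Nat.one_le_pow 2 x hq1
  have h2 := Nat.one_le_pow 4 x hq1
  have h3 := Nat.one_le_pow 6 x hq1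
  zify [hq1, h1, h2, h3]
  ring

/-- The roots of the Levi subgroup. -/
abbrev leviRoots : List ℕ := [6, 10, 12, 13, 14, 17, 19, 20, 22, 25, 27, 28, 30, 33, 34, 35, 37, 41]

theorem inRootSub_mem {r : ℕ} (h : chevF4.InRootSub J r) : r ∈ leviRoots := by
  have key : ∀ r < 48, (chevF4.coroot.getD r #[]).getD 3 0 = 0 → r ∈ leviRoots := by decide +kernel
  refine key r ?_ (h.2 3 (by decide +kernel) (by simp [J]))
  have h1 : r < chevF4.nroots := h.1
  rwa [show chevF4.nroots = 48 by decide +kernel] at h1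

theorem comm_ok : ∀ r ∈ leviRoots, ∀ a ∈ [0, 47],
    r < chevF4.nroots ∧ a < chevF4.nroots ∧ r ≠ a ∧ r ≠ chevF4.neg a ∧
      (chevF4.commTerms a r).isEmpty = true := by decide +kernel

theorem commute_root {r a : ℕ} (hr : r ∈ leviRoots) (ha : a ∈ [0, 47]) (t u : F) :
    Commute (xg hC r t) (xg hC a u) := by
  obtain ⟨h1, h2, h3, h4, h5⟩ := comm_ok r hr a ha
  have h := xg_comm hC h2 h1 h3 h4 u t
  rw [List.isEmpty_iff] at h5
  rw [ChevalleyDatum.commWord, h5] at h
  simp at h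
  exact h

/-- The derived part of the Levi subgroup. -/
abbrev levi (F : Type*) [Field F] : Subgroup (GL chevF4.Idx F) :=
  Subgroup.closure {g : GL chevF4.Idx F | ∃ (r : ℕ) (t : F), chevF4.InRootSub J r ∧
    (g : Matrix chevF4.Idx chevF4.Idx F) = chevF4.x F r t}

theorem commute_levi {x y : GL chevF4.Idx F} (hx : x ∈ levi F)
    (hy : y ∈ Subgroup.closure (Set.range (fun t : F => xg hC 47 t) ∪ Set.range fun t : F => xg hC 0 t)) :
    Commute x y := by
  induction hx using Subgroup.closure_induction with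
  | mem g hg =>
    obtain ⟨r, t, hr, hgt⟩ := hg
    rw [eq_xg hC hgt]
    induction hy using Subgroup.closure_induction with
    | mem z hz =>
      rcases hz with ⟨u, rfl⟩ | ⟨u, rfl⟩
      · exact commute_root (inRootSub_mem hr) (by simp) t u
      · exact commute_root (inRootSub_mem hr) (by simp) t u
    | one => exact Commute.one_right _
    | mul a b _ _ ha hb => exact ha.mul_right hb
    | inv a _ ha => exact ha.inv_right
  | one => exact Commute.one_left _
  | mul a b _ _ ha hb => exact ha.mul_left hb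
  | inv a _ ha => exact ha.inv_left

theorem levi_le : levi F ≤ chevF4.group F := by
  rw [Subgroup.closure_le]
  rintro g ⟨r, t, hr, hg⟩
  rw [eq_xg hC hg]
  exact xg_mem_group hC hr.1 t

section RankOne

variable [CharP F 2]

open SL2 in
/-- The homomorphism of the special linear group onto a rank one subgroup is injective. -/
theorem exists_embedding {r : ℕ} (hr : r < chevF4.nroots) (hp : 0 < Data.F4.tab.phi r) :
    ∃ φ : Matrix.SpecialLinearGroup (Fin 2) F →* GL chevF4.Idx F, Function.Injective φ ∧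
      ∀ g, φ g ∈ Subgroup.closure (Set.range (fun t : F => xg hC r t) ∪
        Set.range fun t : F => xg hC (chevF4.neg r) t) := by
  obtain ⟨φ, hX, hY, hmem⟩ := exists_hom (rank1 (F := F) hC hr)
  refine ⟨φ, (injective_iff_map_eq_one φ).2 ?_, hmem⟩
  have hlow : ∀ g, φ g = 1 → el g 1 0 = 0 := by
    intro g hg
    by_contra hc
    rw [decomp hc, map_mul, map_mul, hX, hY, hX] at hg
    have h1 : xg hC (chevF4.neg r) (el g 1 0) ∈ chevF4.posUnipotent F := by
      have e : xg hC (chevF4.neg r) (el g 1 0) = (xg hC r ((el g 0 0 - 1) / el g 1 0))⁻¹ *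
          (xg hC r ((el g 1 1 - 1) / el g 1 0))⁻¹ := by
        rw [← mul_one (xg hC r ((el g 0 0 - 1) / el g 1 0))⁻¹, ← hg]
        group
      rw [e]
      exact mul_mem (inv_mem (xg_mem_U hC hr hp _)) (inv_mem (xg_mem_U hC hr hp _))
    have h2 := U_inf_V hC h1 (xg_mem_V hC (hC.neg_lt hr) (by rw [hC.phi_neg hr]; omega) _)
    rw [← xg_zero hC (chevF4.neg r)] at h2
    exact hc (xg_injective hC (hC.neg_lt hr) h2)
  intro g hg
  have hconj : ∀ h h', h * h' = 1 → el (h * g * h') 1 0 = 0 := fun h h' e =>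
    hlow _ (by rw [map_mul, map_mul, hg, mul_one, ← map_mul, e, map_one])
  have h10 := hlow g hg
  have hdet := el_det g
  have h01 : el g 0 1 = 0 := by
    obtain ⟨sw', hsw'⟩ : ∃ h : Matrix.SpecialLinearGroup (Fin 2) F,
        (h : Matrix (Fin 2) (Fin 2) F) = !![0, -1; 1, 0] :=
      ⟨⟨!![0, -1; 1, 0], by simp [Matrix.det_fin_two_of]⟩, rfl⟩
    have hh := hconj sw sw' (Subtype.ext (by
      rw [Matrix.SpecialLinearGroup.coe_mul, coe_sw, hsw']
      ext i j; fin_cases i <;> fin_cases j <;> simp [Matrix.mul_apply, Fin.sum_univ_two]))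
    rw [el_mul, el_mul, el_mul] at hh
    simpa [el, hsw'] using hh
  have hdiag : el g 0 0 = el g 1 1 := by
    have hh := hconj (sy 1) (sy (-1)) (Subtype.ext (by
      rw [Matrix.SpecialLinearGroup.coe_mul, coe_sy, coe_sy]
      ext i j; fin_cases i <;> fin_cases j <;> simp [Matrix.mul_apply, Fin.sum_univ_two]))
    rw [el_mul, el_mul, el_mul] at hh
    simp [el, sy] at hh h10 h01 ⊢
    linear_combination hh + h01 - h10
  have h00 : el g 0 0 = 1 := by
    rw [h10, mul_zero, sub_zero, ← hdiag] at hdet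
    have h : (el g 0 0 - 1) * (el g 0 0 - 1) = 0 := by
      linear_combination hdet + (1 - el g 0 0) * (CharTwo.two_eq_zero (R := F))
    exact sub_eq_zero.1 (mul_self_eq_zero.1 h)
  have h11 : el g 1 1 = 1 := hdiag ▸ h00
  ext i j
  fin_cases i <;> fin_cases j
  · exact h00
  · exact h01
  · exact h10
  · exact h11

theorem card_SL2 {q : ℕ} (hq : Fintype.card F = q) :
    Nat.card (Matrix.SpecialLinearGroup (Fin 2) F) = q * (q ^ 2 - 1) := by
  classical
  have h := Classical.Linear.natCard_GL_eq_mul (n := Fin 2) (F := F)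
  have hq2 : 1 < q := hq ▸ Fintype.one_lt_card
  rw [Matrix.card_GL_field, Fin.prod_univ_two, hq] at h
  simp only [Fin.val_zero, pow_zero, Fin.val_one, pow_one] at h
  refine Nat.eq_of_mul_eq_mul_left (show 0 < q - 1 by omega) (h.symm.trans ?_)
  have h1 : q ≤ q ^ 2 := Nat.le_self_pow two_ne_zero q
  have h2 : 1 ≤ q ^ 2 := by omega
  zify [h1, h2, hq2.le]
  ring

/-- A rank one subgroup has elements of every prime order dividing `q (q ^ 2 - 1)`. -/
theorem exists_rank_one {q : ℕ} (hq : Fintype.card F = q) {r : ℕ} (hr : r < chevF4.nroots)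
    (hp : 0 < Data.F4.tab.phi r) {p : ℕ} [Fact p.Prime] (hdvd : p ∣ q * (q ^ 2 - 1)) :
    ∃ x ∈ Subgroup.closure (Set.range (fun t : F => xg hC r t) ∪
        Set.range fun t : F => xg hC (chevF4.neg r) t), orderOf x = p := by
  obtain ⟨φ, hinj, hmem⟩ := exists_embedding (F := F) hr hp
  obtain ⟨g, hg⟩ := exists_prime_orderOf_dvd_card' (G := Matrix.SpecialLinearGroup (Fin 2) F) p
    (card_SL2 hq ▸ hdvd)
  exact ⟨φ g, hmem g, (orderOf_injective φ hinj g).trans hg⟩

end RankOne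

theorem coef_exists : ∃ N, Coef.coefChk Data.F4.tab N = true :=
  ⟨_, Types.CoefF4.coef_ok⟩

/-- Elements of the odd prime orders dividing the order of the Levi subgroup. -/
theorem exists_levi [CharP F 2] {q : ℕ} (hq : Fintype.card F = q) {s : ℕ} [Fact s.Prime]
    (hs2 : s ≠ 2) (hdvd : s ∣ (q ^ 2 - 1) * (q ^ 4 - 1) * (q ^ 6 - 1)) :
    ∃ x ∈ levi F, orderOf x = s := by
  classical
  have hs : s.Prime := Fact.out
  by_cases hs1 : s ∣ q ^ 2 - 1
  · obtain ⟨x, hx, hxs⟩ := exists_rank_one (F := F) hq (r := 33) (by decide +kernel) (by decide +kernel)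
      (dvd_mul_of_dvd_right hs1 q : s ∣ q * (q ^ 2 - 1))
    refine ⟨x, (Subgroup.closure_le _).2 ?_ hx, hxs⟩
    have hin := Parabolic.simple_inRootSub (J := J) hC (j := 0) (by decide +kernel) (by simp [J])
    rw [show chevF4.simple 0 = 33 by decide +kernel] at hin
    rintro _ (⟨t, rfl⟩ | ⟨t, rfl⟩)
    · exact Subgroup.subset_closure ⟨_, t, hin.1, coe_xg hC _ _⟩
    · exact Subgroup.subset_closure ⟨_, t, hin.2, coe_xg hC _ _⟩
  have hsq : ¬ s ∣ q - 1 := fun h => hs1 (h.trans (Dvd.intro_left (q + 1) (by rw [← Nat.sq_sub_sq q 1, one_pow])))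
  haveI : Finite (chevF4.parabolicSubgroup F J) := Finite.of_injective _ Subtype.val_injective
  obtain ⟨y, hy⟩ := exists_prime_orderOf_dvd_card' (G := chevF4.parabolicSubgroup F J) s (by
    rw [card_parabolic_eq hq]; exact dvd_mul_of_dvd_right hdvd _)
  obtain ⟨N, hN⟩ := coef_exists
  have hy' : (y : GL chevF4.Idx F) ∈ chevF4.leviSubgroup F J ⊔ chevF4.unipotentRadical F J := by
    rw [sup_comm, Parabolic.radical_sup_levi hC]; exact y.2
  have hLn : chevF4.leviSubgroup F J ≤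
      Subgroup.normalizer (chevF4.unipotentRadical F J : Set (GL chevF4.Idx F)) :=
    le_trans (by rw [← Parabolic.radical_sup_levi hC]; exact le_sup_right)
      (Parabolic.normalizes hC hN J)
  rw [← SetLike.mem_coe, Subgroup.coe_mul_of_left_le_normalizer_right _ _ hLn] at hy'
  obtain ⟨l, hl, u, hu, hlu⟩ := Set.mem_mul.1 hy'
  rw [SetLike.mem_coe] at hl hu
  have pw : ∀ k : ℕ, ∃ u' ∈ chevF4.unipotentRadical F J, (l * u) ^ k = l ^ k * u' := by
    intro k
    induction k with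
    | zero => exact ⟨1, one_mem _, by simp⟩
    | succ k ih =>
      obtain ⟨u', hu', e⟩ := ih
      refine ⟨l⁻¹ * u' * l * u, mul_mem ?_ hu, ?_⟩
      · have h1 := (Subgroup.mem_normalizer_iff.1 (inv_mem (hLn hl)) u').1 hu'
        rwa [inv_inv] at h1
      · rw [pow_succ, e, pow_succ]; group
  have hys : (y : GL chevF4.Idx F) ^ s = 1 := by
    rw [← SubgroupClass.coe_pow, ← hy, pow_orderOf_eq_one]; rfl
  have hls : l ^ s = 1 := by
    obtain ⟨u', hu', e⟩ := pw s
    rw [hlu, hys] at e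
    have h1 : l ^ s ∈ chevF4.unipotentRadical F J ⊓ chevF4.leviSubgroup F J :=
      Subgroup.mem_inf.2 ⟨by rw [eq_inv_of_mul_eq_one_left e.symm]; exact inv_mem hu', pow_mem hl s⟩
    rwa [Parabolic.radical_inf_levi hC hN, Subgroup.mem_bot] at h1
  have hl1 : l ≠ 1 := by
    rintro rfl
    rw [one_mul] at hlu
    have hU : (y : GL chevF4.Idx F) ∈ chevF4.posUnipotent F :=
      (show chevF4.unipotentRadical F J ≤ chevF4.posUnipotent F from
        Subgroup.closure_mono (by rintro g ⟨r, t, hr, -, hg⟩; exact ⟨r, t, hr, hg⟩)) (hlu ▸ hu)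
    have h2 : orderOf (⟨_, hU⟩ : chevF4.posUnipotent F) ∣ Nat.card (chevF4.posUnipotent F) :=
      orderOf_dvd_natCard _
    rw [Subgroup.orderOf_mk, Subgroup.orderOf_coe, hy, Count.card_U hC, Nat.card_eq_fintype_card] at h2
    obtain ⟨n, -, hn⟩ := FiniteField.card F 2
    rw [hn] at h2
    exact hs2 ((Nat.prime_dvd_prime_iff_eq hs Nat.prime_two).1 (hs.dvd_of_dvd_pow (hs.dvd_of_dvd_pow h2)))
  -- the torus part
  have hMn : chevF4.diagonalSubgroup F ≤ Subgroup.normalizer (levi F : Set (GL chevF4.Idx F)) := by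
    have e : levi F = Subgroup.closure {g : GL chevF4.Idx F | ∃ (r : ℕ) (t : F),
        r < chevF4.nroots ∧ chevF4.InRootSub J r ∧ g = xg hC r t} :=
      le_antisymm (Subgroup.closure_mono fun g ⟨r, t, hr, hg⟩ => ⟨r, t, hr.1, hr, eq_xg hC hg⟩)
        (Subgroup.closure_mono fun g ⟨r, t, _, hr, hg⟩ => ⟨r, t, hr, by rw [hg, coe_xg]⟩)
    rw [e]; exact H_le_normalizer hC
  have hl' : l ∈ chevF4.diagonalSubgroup F ⊔ levi F := hl
  rw [← SetLike.mem_coe, Subgroup.coe_mul_of_left_le_normalizer_right _ _ hMn] at hl'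
  obtain ⟨h, hh, m, hm, hhm⟩ := Set.mem_mul.1 hl'
  rw [SetLike.mem_coe] at hh hm
  have pw' : ∀ k : ℕ, ∃ m' ∈ levi F, (h * m) ^ k = h ^ k * m' := by
    intro k
    induction k with
    | zero => exact ⟨1, one_mem _, by simp⟩
    | succ k ih =>
      obtain ⟨m', hm', e⟩ := ih
      refine ⟨h⁻¹ * m' * h * m, mul_mem ?_ hm, ?_⟩
      · have h1 := (Subgroup.mem_normalizer_iff.1 (inv_mem (hMn hh)) m').1 hm'
        rwa [inv_inv] at h1
      · rw [pow_succ, e, pow_succ]; group
  have hh1 : h ^ (q - 1) = 1 := by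
    obtain ⟨c, rfl⟩ := (mem_H_iff hC).1 hh
    rw [← SimpleFacts.AbelianSylow.Twist.torHom_eq, ← map_pow,
      show (fun i : Fin chevF4.rank => c i) ^ (q - 1) = 1 from funext fun i => by
        rw [Pi.pow_apply, Pi.one_apply, ← hq, ← Fintype.card_units, pow_card_eq_one], map_one]
  have hlm : l ^ (q - 1) ∈ levi F := by
    obtain ⟨m', hm', e⟩ := pw' (q - 1)
    rw [hhm, hh1, one_mul] at e
    rwa [e]
  obtain ⟨j, hj⟩ := exists_pow_eq_self_of_coprime (x := l) (n := q - 1) (by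
    rw [orderOf_eq_prime hls hl1]
    exact ((hs.coprime_iff_not_dvd).2 hsq).symm)
  exact ⟨l, hj ▸ pow_mem hlm j, orderOf_eq_prime hls hl1⟩

/-- Commuting elements: an order dividing `q (q ^ 2 - 1)` and one dividing the order of the Levi part. -/
theorem adjacent [CharP F 2] {q : ℕ} (hq : Fintype.card F = q) {r s : ℕ} [Fact r.Prime]
    [Fact s.Prime] (hr : r ∣ q * (q ^ 2 - 1)) (hs2 : s ≠ 2)
    (hs : s ∣ (q ^ 2 - 1) * (q ^ 4 - 1) * (q ^ 6 - 1)) :
    ∃ x y : chevF4.group F, orderOf x = r ∧ orderOf y = s ∧ Commute x y := by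
  obtain ⟨x, hx, hxr⟩ := exists_rank_one (F := F) hq (r := 47) (by decide +kernel) (by decide +kernel) hr
  rw [show chevF4.neg 47 = 0 by decide +kernel] at hx
  obtain ⟨y, hy, hys⟩ := exists_levi hq hs2 hs
  have hxG : x ∈ chevF4.group F := by
    refine (Subgroup.closure_le _).2 ?_ hx
    rintro _ (⟨t, rfl⟩ | ⟨t, rfl⟩)
    · exact xg_mem_group hC (by decide +kernel) t
    · exact xg_mem_group hC (by decide +kernel) t
  refine ⟨⟨x, hxG⟩, ⟨y, levi_le hy⟩, by rw [Subgroup.orderOf_mk, hxr], by rw [Subgroup.orderOf_mk, hys],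
    Subtype.ext (commute_levi hy hx).symm.eq⟩

end Cfsg.Agent.Chevalley.F4Graph.Levi
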