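import Cfsg.Agent.Lib.Chevalley.Singer.Lattice
import Mathlib.LinearAlgebra.Matrix.ToLinearEquiv
import Mathlib.Data.Matrix.ColumnRowPartitioned
import Mathlib.LinearAlgebra.Matrix.SchurComplement
import Mathlib.LinearAlgebra.Matrix.Charpoly.Coeff
import Mathlib.LinearAlgebra.FiniteDimensional.Lemmas
import Mathlib.RingTheory.Polynomial.Cyclotomic.Roots
import Mathlib.FieldTheory.Separable
import Mathlib.Algebra.Field.ZMod

/-!
Integer matrices of finite order with eigenvectors over prime fields: the pieces of linear algebra for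
the twisted tori of type F4.
-/

set_option autoImplicit false
set_option linter.unusedSectionVars false

open scoped Matrix
open Polynomial

namespace Cfsg.Agent.Chevalley.F4Graph.Linear

section TwoEigen

variable {k : Type*} [Field k] {n : Type*} [Fintype n] [DecidableEq n]

/-- A right inverse of a matrix with independent rows. -/
theorem exists_rightInverse {p : Type*} [Fintype p] [DecidableEq p] (V : Matrix p n k)
    (hV : LinearIndependent k fun i => V i) : ∃ Y : Matrix n p k, V * Y = 1 := by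
  have hinj : Function.Injective V.vecMulLinear := Matrix.vecMul_injective_iff.2 hV
  obtain ⟨g, hg⟩ := V.vecMulLinear.exists_leftInverse_of_injective
    (LinearMap.ker_eq_bot.2 hinj)
  refine ⟨Matrix.of fun j i => g (Pi.single j 1) i, ?_⟩
  ext i i'
  have h1 : g (V i) = Pi.single i 1 := by
    have h2 := LinearMap.congr_fun hg (Pi.single i 1)
    simpa [Matrix.single_one_vecMul, Matrix.row] using h2
  rw [Matrix.mul_apply, Matrix.one_apply]
  have h3 : g (V i) i' = ∑ j, V i j * g (Pi.single j 1) i' := by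
    conv_lhs => rw [show V i = ∑ j, V i j • Pi.single j (1 : k) from
      funext fun a => by simp [Finset.sum_apply, Pi.single_apply]]
    rw [map_sum, Finset.sum_apply]
    simp
  simp only [Matrix.of_apply]
  rw [← h3, h1, Pi.single_apply]
  simp [eq_comm]

/-- Two independent eigenvectors of an isometry of a four dimensional space. -/
theorem two_eigen (hn : Fintype.card n = 4) {A S : Matrix n n k} {m : ℕ} (hm0 : 0 < m)
    (hA : A ^ m = 1) (hS : S.det ≠ 0) (hAS : Aᵀ * S * A = S) {q q' : k} (hqq : q * q' = 1)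
    (hne : q ≠ q') {V : Matrix (Fin 2) n k} (hV : LinearIndependent k fun i => V i)
    (hVA : V * A = q • V) :
    A.det = 1 ∧ (A - q' • 1) * (A - q • 1) = 0 := by
  classical
  obtain ⟨Y, hY⟩ := exists_rightInverse V hV
  obtain ⟨X, hX⟩ : ∃ X, X = S⁻¹ * Vᵀ := ⟨_, rfl⟩
  have hSu : IsUnit S.det := isUnit_iff_ne_zero.2 hS
  have hSX : S * X = Vᵀ := by rw [hX, ← Matrix.mul_assoc, Matrix.mul_nonsing_inv _ hSu, Matrix.one_mul]
  have hAu : IsUnit Aᵀ.det := by
    rw [Matrix.det_transpose]
    refine IsUnit.of_mul_eq_one (A ^ (m - 1)).det ?_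
    rw [← Matrix.det_mul, ← pow_succ', Nat.sub_add_cancel hm0, hA, Matrix.det_one]
  have hAtV : Aᵀ * Vᵀ = q • Vᵀ := by rw [← Matrix.transpose_mul, hVA, Matrix.transpose_smul]
  have hAX : A * X = q' • X := by
    have h1 : Aᵀ * (S * (A * X)) = Aᵀ * (q' • (S * X)) := by
      rw [← Matrix.mul_assoc, ← Matrix.mul_assoc, hAS, hSX, Matrix.mul_smul, hAtV, smul_smul,
        mul_comm, hqq, one_smul]
    have h2 := congrArg (Aᵀ⁻¹ * ·) h1
    simp only [← Matrix.mul_assoc, Matrix.nonsing_inv_mul _ hAu, Matrix.one_mul] at h2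
    have h3 := congrArg (S⁻¹ * ·) h2
    simpa [← Matrix.mul_assoc, Matrix.nonsing_inv_mul _ hSu, Matrix.mul_smul] using h3
  have hVX : V * X = 0 := by
    have h1 : q • (V * X) = q' • (V * X) := by
      rw [← Matrix.smul_mul, ← hVA, Matrix.mul_assoc, hAX, Matrix.mul_smul]
    have h2 : (q - q') • (V * X) = 0 := by rw [sub_smul, h1, sub_self]
    exact (smul_eq_zero.1 h2).resolve_left (sub_ne_zero.2 hne)
  obtain ⟨Z, hZ⟩ : ∃ Z, Z = Yᵀ * S := ⟨_, rfl⟩
  have hZX : Z * X = 1 := by
    rw [hZ, Matrix.mul_assoc, hSX, ← Matrix.transpose_mul, hY, Matrix.transpose_one]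
  obtain ⟨e⟩ : Nonempty ((Fin 2 ⊕ Fin 2) ≃ n) :=
    ⟨(Fintype.equivOfCardEq (by simp [hn]))⟩
  obtain ⟨Lm, hLm⟩ : ∃ Lm, Lm = Matrix.fromRows Z V := ⟨_, rfl⟩
  obtain ⟨Q, hQ⟩ : ∃ Q, Q = Matrix.fromCols X Y := ⟨_, rfl⟩
  have hone : Lm * Q = Matrix.fromBlocks 1 (Z * Y) 0 1 := by
    rw [hLm, hQ, Matrix.fromRows_mul_fromCols, hZX, hVX, hY]
  have hdetA : Lm * A * Q = Matrix.fromBlocks (q' • 1) (Z * (A * Y)) 0 (q • 1) := by
    rw [hLm, hQ, Matrix.mul_assoc, Matrix.mul_fromCols, Matrix.fromRows_mul_fromCols, hAX,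
      Matrix.mul_smul, hZX, Matrix.mul_smul, hVX, smul_zero, ← Matrix.mul_assoc V A Y, hVA,
      Matrix.smul_mul, hY]
  -- pass to square matrices
  obtain ⟨L4, hL4⟩ : ∃ L4, L4 = Lm.submatrix e.symm id := ⟨_, rfl⟩
  obtain ⟨Q4, hQ4⟩ : ∃ Q4, Q4 = Q.submatrix id e.symm := ⟨_, rfl⟩
  have hsq : ∀ B : Matrix n n k, L4 * B * Q4 = (Lm * B * Q).submatrix e.symm e.symm := fun B => by
    rw [hL4, hQ4]
    ext i j
    simp [Matrix.mul_apply]
  have hd1 : L4.det * Q4.det = 1 := by
    rw [← Matrix.det_mul, ← Matrix.mul_one L4, hsq, Matrix.mul_one, hone,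
      Matrix.det_submatrix_equiv_self, Matrix.det_fromBlocks_zero₂₁]
    simp
  refine ⟨?_, ?_⟩
  · have h1 : (L4 * A * Q4).det = 1 := by
      rw [hsq, hdetA, Matrix.det_submatrix_equiv_self, Matrix.det_fromBlocks_zero₂₁,
        Matrix.det_smul, Matrix.det_smul]
      simp only [Fintype.card_fin, Matrix.det_one, mul_one]
      rw [← mul_pow, mul_comm q', hqq, one_pow]
    rw [Matrix.det_mul, Matrix.det_mul] at h1
    linear_combination h1 - A.det * hd1
  · have hinv : X * (Z - Z * Y * V) + Y * V = 1 := by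
      have hc : Matrix.fromBlocks (1 : Matrix (Fin 2) (Fin 2) k) (-(Z * Y)) 0 (1 : Matrix (Fin 2) (Fin 2) k) * Lm * Q = 1 := by
        rw [Matrix.mul_assoc, hone, Matrix.fromBlocks_multiply]
        simp [Matrix.fromBlocks_one]
      have hc' : Q * (Matrix.fromBlocks (1 : Matrix (Fin 2) (Fin 2) k) (-(Z * Y)) 0 (1 : Matrix (Fin 2) (Fin 2) k) * Lm) = 1 := by
        have h4 : (Matrix.fromBlocks (1 : Matrix (Fin 2) (Fin 2) k) (-(Z * Y)) 0 (1 : Matrix (Fin 2) (Fin 2) k) *
            Lm).submatrix e.symm id * Q4 = 1 := by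
          rw [hQ4, ← Matrix.submatrix_mul _ _ e.symm id e.symm Function.bijective_id,
            hc, Matrix.submatrix_one_equiv]
        have h5 := mul_eq_one_comm.1 h4
        rw [hQ4, Matrix.submatrix_mul_equiv, Matrix.submatrix_id_id] at h5
        exact h5
      rw [hLm, hQ, Matrix.fromBlocks_mul_fromRows, Matrix.fromCols_mul_fromRows] at hc'
      simp only [Matrix.one_mul, Matrix.zero_mul, zero_add, Matrix.neg_mul] at hc'
      rw [← hc']
      noncomm_ring
    have hX0 : (A - q' • 1) * X = 0 := by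
      rw [Matrix.sub_mul, hAX, Matrix.smul_mul, Matrix.one_mul, sub_self]
    have hcomm : (A - q' • 1) * (A - q • 1) = (A - q • 1) * (A - q' • 1) :=
      (((Commute.refl A).sub_right ((Commute.one_right A).smul_right q)).sub_left
        ((Commute.one_left (A - q • (1 : Matrix n n k))).smul_left q')).eq
    obtain ⟨P, hP⟩ : ∃ P, P = (A - q' • 1) * (A - q • 1) := ⟨_, rfl⟩
    have hPX : P * X = 0 := by rw [hP, hcomm, Matrix.mul_assoc, hX0, Matrix.mul_zero]
    have hPY : P * Y = 0 := by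
      have hV0 : V * ((A - q • 1) * Y) = 0 := by
        rw [← Matrix.mul_assoc, Matrix.mul_sub, hVA, Matrix.mul_smul, Matrix.mul_one, sub_self,
          Matrix.zero_mul]
      have h1 := congrArg (fun B => (A - q' • 1) * (B * ((A - q • 1) * Y))) hinv
      simp only [Matrix.add_mul, Matrix.one_mul, Matrix.mul_add] at h1
      rw [Matrix.mul_assoc Y V, hV0, Matrix.mul_zero, Matrix.mul_zero, add_zero, Matrix.mul_assoc X,
        ← Matrix.mul_assoc _ X, hX0, Matrix.zero_mul] at h1
      rw [hP, Matrix.mul_assoc]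
      exact h1.symm
    rw [← hP, ← Matrix.mul_one P, ← hinv, Matrix.mul_add, ← Matrix.mul_assoc, ← Matrix.mul_assoc,
      hPX, hPY, Matrix.zero_mul, Matrix.zero_mul, add_zero]

/-- An isometry with a singular `A - q⁻¹` has a singular `A - q`. -/
theorem det_shift {A S : Matrix n n k} (hS : S.det ≠ 0) (hAS : Aᵀ * S * A = S) {q q' : k}
    (hqq : q * q' = 1) (h : (A - q' • 1).det = 0) : (A - q • 1).det = 0 := by
  have h1 : (q • Aᵀ) * S * (A - q' • 1) = -((Aᵀ - q • 1) * S) := by
    rw [Matrix.mul_sub, Matrix.smul_mul, Matrix.smul_mul, hAS, Matrix.mul_smul, Matrix.mul_one,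
      smul_smul, mul_comm q', hqq, one_smul, Matrix.sub_mul, Matrix.smul_mul, Matrix.one_mul, neg_sub]
  have h2 := congrArg Matrix.det h1
  rw [Matrix.det_mul _ (A - q' • 1), h, mul_zero, Matrix.det_neg, Matrix.det_mul, eq_comm] at h2
  simp only [mul_eq_zero, pow_eq_zero_iff', neg_eq_zero, one_ne_zero, false_and, false_or, hS,
    or_false] at h2
  rwa [show Aᵀ - q • 1 = (A - q • 1)ᵀ by simp, Matrix.det_transpose] at h2

end TwoEigen

theorem det_one_sub_vecMulVec {R : Type*} [CommRing R] {n : Type*} [Fintype n] [DecidableEq n]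
    (u v : n → R) : (1 - Matrix.vecMulVec u v).det = 1 - v ⬝ᵥ u := by
  rw [show Matrix.vecMulVec u v = Matrix.replicateCol Unit u * Matrix.replicateRow Unit v from
    Matrix.vecMulVec_eq Unit u v, Matrix.det_one_sub_mul_comm]
  simp [Matrix.det_unique, Matrix.mul_apply, dotProduct]

section Lift

variable {l : ℕ} {M : Matrix (Fin l) (Fin l) ℤ} {m r : ℕ} [Fact r.Prime]

/-- Reduction of an integer matrix polynomial. -/
theorem cast_aeval (p : ℤ[X]) : (aeval M p).map (Int.cast : ℤ → ZMod r) =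
    aeval (M.map (Int.cast : ℤ → ZMod r)) (p.map (Int.castRingHom (ZMod r))) := by
  exact Singer.map_aeval M p

/-- The cofactor of a divisor of `X ^ m - 1` is coprime to it modulo `r`. -/
theorem coprime_map {P g : ℤ[X]} (hPg : P * g = X ^ m - 1) (hrm : ¬ r ∣ m) :
    IsCoprime (P.map (Int.castRingHom (ZMod r))) (g.map (Int.castRingHom (ZMod r))) := by
  have hm : (m : ZMod r) ≠ 0 := fun h => hrm ((ZMod.natCast_eq_zero_iff _ _).1 h)
  have hsep : (X ^ m - C (1 : ZMod r)).Separable := separable_X_pow_sub_C _ hm one_ne_zero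
  rw [C_1] at hsep
  have h := congrArg (Polynomial.map (Int.castRingHom (ZMod r))) hPg
  simp only [Polynomial.map_mul, Polynomial.map_sub, Polynomial.map_pow, map_X, Polynomial.map_one] at h
  rw [← h] at hsep
  exact hsep.isCoprime

/-- A factor of `X ^ m - 1` with a root at an eigenvalue modulo `r` is singular at the matrix. -/
theorem det_aeval_eq_zero {P g : ℤ[X]} (hPg : P * g = X ^ m - 1) (hM : M ^ m = 1) (hrm : ¬ r ∣ m)
    {c : ZMod r} (hc : (P.map (Int.castRingHom (ZMod r))).eval c = 0) {v : Fin l → ZMod r}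
    (hv0 : v ≠ 0) (hv : v ᵥ* M.map Int.cast = c • v) :
    (aeval M P).det = 0 := by
  by_contra hne
  have h1 : aeval M P * aeval M g = 0 := by
    rw [← map_mul, hPg, map_sub, map_pow, aeval_X, map_one, hM, sub_self]
  have h2 := congrArg ((aeval M P).adjugate * ·) h1
  simp only [← mul_assoc, Matrix.adjugate_mul, Matrix.smul_mul, Matrix.one_mul, mul_zero] at h2
  have hg0 : aeval M g = 0 := (smul_eq_zero.1 h2).resolve_left hne
  have h3 := Singer.vecMul_aeval hv (g.map (Int.castRingHom (ZMod r)))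
  rw [← cast_aeval, hg0, Matrix.map_zero _ Int.cast_zero, Matrix.vecMul_zero, eq_comm,
    smul_eq_zero] at h3
  obtain ⟨a, b, hab⟩ := coprime_map (r := r) hPg hrm
  have h4 := congrArg (Polynomial.eval c) hab
  rw [eval_add, eval_mul, eval_mul, hc, h3.resolve_right hv0, mul_zero, mul_zero, add_zero,
    eval_one] at h4
  exact zero_ne_one h4

/-- A factor of `X ^ m - 1` killing the matrix modulo `r` kills it. -/
theorem aeval_eq_zero {P g : ℤ[X]} (hPg : P * g = X ^ m - 1) (hM : M ^ m = 1) (hrm : ¬ r ∣ m)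
    (h : aeval (M.map (Int.cast : ℤ → ZMod r)) (P.map (Int.castRingHom (ZMod r))) = 0) :
    aeval M P = 0 := by
  obtain ⟨a, b, hab⟩ := coprime_map (r := r) hPg hrm
  have h4 := congrArg (aeval (M.map (Int.cast : ℤ → ZMod r))) hab
  rw [map_add, map_mul, map_mul, h, mul_zero, zero_add, map_one, ← cast_aeval] at h4
  have hdet : (aeval M g).det ≠ 0 := by
    intro h0
    have h5 := congrArg Matrix.det h4
    rw [Matrix.det_mul, Matrix.det_one, show ((aeval M g).map (Int.cast : ℤ → ZMod r)).det =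
      (((aeval M g).det : ℤ) : ZMod r) from ((Int.castRingHom (ZMod r)).map_det _).symm, h0,
      Int.cast_zero, mul_zero] at h5
    exact zero_ne_one h5
  have h1 : aeval M g * aeval M P = 0 := by
    rw [← map_mul, mul_comm g P, hPg, map_sub, map_pow, aeval_X, map_one, hM, sub_self]
  have h2 := congrArg ((aeval M g).adjugate * ·) h1
  simp only [← mul_assoc, Matrix.adjugate_mul, Matrix.smul_mul, Matrix.one_mul, mul_zero] at h2
  exact (smul_eq_zero.1 h2).resolve_left hdet

end Lift

end Cfsg.Agent.Chevalley.F4Graph.Linear
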