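import Cfsg.Agent.Lib.Chevalley.F4Graph.Eigen
import Cfsg.Agent.S2378

/-!
Commuting elements of two odd prime orders in the groups of type F4 in characteristic two, for the primes
with primitive orders three, four, six, eight and twelve.
-/

set_option autoImplicit false
set_option linter.unusedSectionVars false

open scoped Matrix

namespace Cfsg.Agent.Chevalley.F4Graph.Semisimple

open Cfsg.Lie Cfsg.Agent.Chevalley Cfsg.Agent.Chevalley.Table Cfsg.Agent.Chevalley.Cert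
  Cfsg.Agent.Chevalley.Group Cfsg.Agent.Chevalley.Borel Cfsg.Agent.Chevalley.TorusCard
  Cfsg.Agent.Chevalley.FieldAut Cfsg.Agent.Chevalley.FieldFix Cfsg.Agent.Chevalley.Singer
  Cfsg.Agent.Chevalley.F4Graph.Frame
  Cfsg.Agent.SimpleFacts.AbelianSylow.Lattice

variable {F K : Type*} [Field F] [Fintype F] [CharP F 2] [Field K] [Fintype K]

section Arith

variable {q p : ℕ} [Fact p.Prime]

theorem cast_ne_zero {e : ℕ} (he : orderOf (q : ZMod p) = e) (he0 : e ≠ 0) : (q : ZMod p) ≠ 0 :=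
  fun h => he0 (by rw [← he, h, orderOf_zero])

theorem five_le {e : ℕ} (he : orderOf (q : ZMod p) = e) (he3 : 3 ≤ e) : 5 ≤ p := by
  have h1 := he ▸ ZMod.orderOf_dvd_card_sub_one (cast_ne_zero he (by omega))
  have hp : p.Prime := Fact.out
  have h2 := Nat.le_of_dvd (by have := hp.two_le; omega) h1
  rcases eq_or_ne p 4 with rfl | h4
  · exact absurd hp (by norm_num)
  omega

theorem cast_card {f : F →+* K} {σ : K →+* K} (hE : Ext q f σ) {e : ℕ}
    (he : orderOf (q : ZMod p) = e) (hd : e ∣ 24) : (Fintype.card K : ZMod p) = 1 := by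
  rw [hE.card, Nat.cast_pow]
  exact orderOf_dvd_iff_pow_eq_one.1 (he ▸ hd)

theorem exists_zeta (hQ : (Fintype.card K : ZMod p) = 1) : ∃ ζ : Kˣ, orderOf ζ = p := by
  refine exists_prime_orderOf_dvd_card' p ?_
  rw [Nat.card_units, Nat.card_eq_fintype_card, ← ZMod.natCast_eq_zero_iff,
    Nat.cast_sub Fintype.card_pos, hQ, Nat.cast_one, sub_self]

end Arith

variable {q : ℕ} {f : F →+* K} {σ : K →+* K}

/-- An abelian configuration moved into the torus of the extension. -/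
theorem into_torus {p : ℕ} [Fact p.Prime] (hQ : (Fintype.card K : ZMod p) = 1) (hp5 : 5 ≤ p)
    (f : F →+* K) {Q : Subgroup (chevF4.group F)} (hQp : IsPGroup p Q) {u0 : GL chevF4.Idx K}
    (hu0 : u0 ∈ chevF4.group K) {S : Set (chevF4.group F)}
    (hS : ∀ s ∈ S, u0 * mapGL chevF4 f (s : GL chevF4.Idx F) * u0⁻¹ ∈ chevF4.diagonalSubgroup K)
    (hQS : ∀ x ∈ Q, ∀ s ∈ S, Commute x s) :
    ∃ gv ∈ chevF4.group K, ∀ x : chevF4.group F, x ∈ Q ∨ x ∈ S →
      gv⁻¹ * mapGL chevF4 f (x : GL chevF4.Idx F) * gv ∈ chevF4.diagonalSubgroup K := by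
  obtain ⟨ι, hι⟩ : ∃ ι : chevF4.group F →* GL chevF4.Idx K,
      ι = (MulAut.conj u0).toMonoidHom.comp ((mapGL chevF4 f).comp (chevF4.group F).subtype) := ⟨_, rfl⟩
  have hιe : ∀ x : chevF4.group F, ι x = u0 * mapGL chevF4 f (x : GL chevF4.Idx F) * u0⁻¹ := fun x => by
    rw [hι]; rfl
  have hG : ∀ x, ι x ∈ chevF4.group K := fun x => by
    rw [hιe]; exact mul_mem (mul_mem hu0 (map_mem_group f x.2)) (inv_mem hu0)
  obtain ⟨u, hu, huS, huQ⟩ := AltSection.F4.exists_conj_torus ι hQ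
    (Eigen.not_dvd_small (Fact.out : p.Prime) hp5).2.1 hG hQp (S := ι '' S)
    (by rintro _ ⟨s, hs, rfl⟩; rw [hιe]; exact hS s hs)
    (by rintro x hx _ ⟨s, hs, rfl⟩; rw [← map_mul, ← map_mul, (hQS x hx s hs).eq])
  refine ⟨(u * u0)⁻¹, inv_mem (mul_mem hu hu0), fun x hx => ?_⟩
  rw [show (u * u0)⁻¹⁻¹ * mapGL chevF4 f (x : GL chevF4.Idx F) * (u * u0)⁻¹ =
    u * (u0 * mapGL chevF4 f (x : GL chevF4.Idx F) * u0⁻¹) * u⁻¹ by group, ← hιe]
  rcases hx with hx | hx
  · exact huQ x hx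
  · rw [huS _ ⟨x, hx, rfl⟩, hιe]; exact hS x hx

/-- A single element of prime order moved into the torus. -/
theorem into_torus_one {p : ℕ} [Fact p.Prime] (hQ : (Fintype.card K : ZMod p) = 1) (hp5 : 5 ≤ p)
    (f : F →+* K) {y : chevF4.group F} (hy : orderOf y = p) :
    ∃ gv ∈ chevF4.group K,
      gv⁻¹ * mapGL chevF4 f (y : GL chevF4.Idx F) * gv ∈ chevF4.diagonalSubgroup K := by
  obtain ⟨gv, hgv, h⟩ := into_torus hQ hp5 f (Q := Subgroup.zpowers y)
    (IsPGroup.of_card (n := 1) (by rw [Nat.card_zpowers, hy, pow_one])) (u0 := 1) (one_mem _)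
    (S := ∅) (by simp) (by simp)
  exact ⟨gv, hgv, h y (Or.inl (Subgroup.mem_zpowers y))⟩

/-- The vector of an element of prime order. -/
theorem vector (hE : Ext q f σ) (d : TorusData σ) {p : ℕ} [Fact p.Prime] {ζ : Kˣ}
    (hζ : orderOf ζ = p) (hqp : (q : ZMod p) ≠ 0) {y : chevF4.group F} (hy : orderOf y = p)
    (hyT : d.gv⁻¹ * mapGL chevF4 f (y : GL chevF4.Idx F) * d.gv ∈ chevF4.diagonalSubgroup K) :
    ∃ v : Fin chevF4.rank → ZMod p, v ≠ 0 ∧ v ∈ eig (D := chevF4) d.L (q : ZMod p) d.sup ∧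
      mapGL chevF4 f (y : GL chevF4.Idx F) = d.gv * tor chevF4 (cv ζ v) * d.gv⁻¹ := by
  obtain ⟨v, hv, e⟩ := exists_vector hζ hE d hqp (orderOf_dvd_iff_pow_eq_one.1 hy.dvd) hyT
  refine ⟨v, fun h0 => ?_, hv, e⟩
  rw [h0, tor_zero hζ, mul_one, mul_inv_cancel, ← map_one (mapGL chevF4 f)] at e
  have h1 : y = 1 := Subtype.ext (mapGL_injective f e)
  rw [h1, orderOf_one] at hy
  exact (Fact.out : p.Prime).one_lt.ne hy

/-- The twisted torus of an element with a primitive order eight or twelve. -/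
theorem big_torus (hE : Ext q f σ) {p : ℕ} [Fact p.Prime] {l : ℕ} (hl : l = 8 ∨ l = 12)
    (he : orderOf (q : ZMod p) = l) {y : chevF4.group F} (hy : orderOf y = p) :
    ∃ d : TorusData σ, (wMat chevF4 d.L).charpoly = Polynomial.cyclotomic l ℤ ∧ d.sup = ∅ ∧
      (d.gv⁻¹ * mapGL chevF4 f (y : GL chevF4.Idx F) * d.gv ∈ chevF4.diagonalSubgroup K) ∧
      ∀ x : chevF4.group F, Commute x y →
        d.gv⁻¹ * mapGL chevF4 f (x : GL chevF4.Idx F) * d.gv ∈ chevF4.diagonalSubgroup K := by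
  have hp5 : 5 ≤ p := five_le he (by omega)
  have hQ := cast_card hE he (by rcases hl with rfl | rfl <;> norm_num)
  obtain ⟨ζ, hζ⟩ := exists_zeta hQ
  obtain ⟨gv, hgv, hyT⟩ := into_torus_one hQ hp5 f hy
  obtain ⟨d, rfl⟩ := exists_data σ hgv
  obtain ⟨v, hv0, ⟨hvA, hvS⟩, hye⟩ := vector hE d hζ (cast_ne_zero he (by omega)) hy hyT
  obtain ⟨hcp, hdet⟩ := Eigen.big d.lt hl he hp5 hv0 hvA
  have hreg : ∀ α < chevF4.nroots, ev v α ≠ 0 := by
    intro α hα h0
    obtain ⟨L', hL', hd', hv'⟩ := Eigen.exists_opposite (p := p) d.lt hα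
    have h1 := (Eigen.big hL' hl he hp5 hv0 ((hv' v h0).trans hvA)).2
    rw [hd', hdet] at h1
    norm_num at h1
  refine ⟨d, hcp, Finset.eq_empty_of_forall_notMem fun s hs => hreg s (d.sup_lt s hs) (hvS s hs),
    hyT, fun x hx => ?_⟩
  have hcomm : tor chevF4 (cv ζ v) * (d.gv⁻¹ * mapGL chevF4 f (x : GL chevF4.Idx F) * d.gv) *
      (tor chevF4 (cv ζ v))⁻¹ = d.gv⁻¹ * mapGL chevF4 f (x : GL chevF4.Idx F) * d.gv := by
    have h1 : mapGL chevF4 f (y : GL chevF4.Idx F) * mapGL chevF4 f (x : GL chevF4.Idx F) =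
        mapGL chevF4 f (x : GL chevF4.Idx F) * mapGL chevF4 f (y : GL chevF4.Idx F) := by
      rw [← map_mul, ← map_mul]
      exact congrArg (fun z : chevF4.group F => mapGL chevF4 f (z : GL chevF4.Idx F)) hx.eq.symm
    rw [show tor chevF4 (cv ζ v) = d.gv⁻¹ * mapGL chevF4 f (y : GL chevF4.Idx F) * d.gv by
      rw [hye]; group]
    calc _ = d.gv⁻¹ * (mapGL chevF4 f (y : GL chevF4.Idx F) * mapGL chevF4 f (x : GL chevF4.Idx F)) *
          (mapGL chevF4 f (y : GL chevF4.Idx F))⁻¹ * d.gv := by group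
      _ = _ := by rw [h1]; group
  refine mem_H_of_commute Frame.hC (fun s hs h => hreg s hs ((char_one_iff hζ v s).1 h)) ?_
    (mul_mem (mul_mem (inv_mem d.mem) (map_mem_group f x.2)) d.mem) hcomm
  intro L' hL' h
  refine eqv_nil_of_fix Frame.hC Weyl.cartan_isUnit.ne_zero
    (by rw [Eigen.card_weyl]; exact (Eigen.not_dvd_small (Fact.out : p.Prime) hp5).1) hL' (v := v)
    (ev_ext det_unit fun j => ?_) hreg
  have hs := Frame.hC.simple_lt j.2
  rw [ev_vecMul Frame.hC v hL' hs]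
  exact (char_eq_iff hζ v v _ _).1 (h _ hs)

theorem not_root_twelve_three (x : ZMod 3) (hx : x ≠ 0) :
    ¬ (Polynomial.cyclotomic 12 (ZMod 3)).IsRoot x := by
  intro h
  rw [show 12 = 6 * 2 from rfl, ← Polynomial.cyclotomic_expand_eq_cyclotomic Nat.prime_two
    (by norm_num) (ZMod 3), Polynomial.IsRoot, Polynomial.expand_eval] at h
  have hx2 : x ^ 2 = ((1 : ℤ) : ZMod 3) := by
    rw [Int.cast_one]; exact ZMod.pow_card_sub_one_eq_one hx
  rw [hx2, ← Polynomial.map_cyclotomic 6 (Int.castRingHom (ZMod 3)),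
    show ((1 : ℤ) : ZMod 3) = Int.castRingHom (ZMod 3) 1 from rfl, Polynomial.eval_map_apply] at h
  have h6 := Singer.eval_cyclotomic_six 1
  rw [show (Polynomial.cyclotomic 6 ℤ).eval 1 = 1 by omega, map_one] at h
  exact one_ne_zero h

/-- A prime order commuting with a primitive order eight or twelve is of the same kind. -/
theorem big_commute (hE : Ext q f σ) (hq2 : 2 ∣ q) {r s : ℕ} [Fact r.Prime] [Fact s.Prime] {l : ℕ}
    (hl : l = 8 ∨ l = 12) (he : orderOf (q : ZMod s) = l) {x y : chevF4.group F}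
    (hx : orderOf x = r) (hy : orderOf y = s) (hxy : Commute x y) :
    r ≠ 2 ∧ orderOf (q : ZMod r) = l := by
  have hr : r.Prime := Fact.out
  obtain ⟨d, hcp, -, -, hcent⟩ := big_torus hE hl he hy
  have hxT := hcent x hxy
  have hq1 : 1 ≤ q := Nat.one_le_iff_ne_zero.2 fun h => by
    have := hE.card; rw [h, zero_pow (by norm_num)] at this; exact Fintype.card_ne_zero this
  have hdvd : r ∣ q ^ 24 - 1 := by
    obtain ⟨c, hc⟩ := (mem_H_iff Frame.hC).1 hxT
    rw [← hE.card, ← Nat.card_eq_fintype_card, ← Nat.card_units, ← hx]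
    refine orderOf_dvd_of_pow_eq_one (Subtype.ext (mapGL_injective f ?_))
    have h1 : (d.gv⁻¹ * mapGL chevF4 f (x : GL chevF4.Idx F) * d.gv) ^ Nat.card Kˣ = 1 := by
      rw [hc, ← tor_eq_torHom Frame.hC, ← map_pow,
        show (fun i : Fin chevF4.rank => c i) ^ Nat.card Kˣ = 1 from
          funext fun i => by rw [Pi.pow_apply, pow_card_eq_one', Pi.one_apply], map_one]
    rw [show d.gv⁻¹ * mapGL chevF4 f (x : GL chevF4.Idx F) * d.gv =
      d.gv⁻¹ * mapGL chevF4 f (x : GL chevF4.Idx F) * d.gv⁻¹⁻¹ by rw [inv_inv], conj_pow] at h1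
    rw [SubgroupClass.coe_pow, map_pow, Subgroup.coe_one, map_one]
    calc _ = d.gv * (d.gv⁻¹ * mapGL chevF4 f (x : GL chevF4.Idx F) ^ Nat.card Kˣ * d.gv⁻¹⁻¹) *
          d.gv⁻¹ := by group
      _ = 1 := by rw [h1]; group
  have hpow1 : 1 ≤ q ^ 24 := Nat.one_le_pow _ _ hq1
  have hr2 : r ≠ 2 := by
    rintro rfl
    have : 2 ∣ q ^ 24 := dvd_pow hq2 (by norm_num)
    omega
  refine ⟨hr2, ?_⟩
  have hQ : (Fintype.card K : ZMod r) = 1 := by
    rw [hE.card, ← sub_eq_zero, ← Nat.cast_one (R := ZMod r), ← Nat.cast_sub hpow1,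
      ZMod.natCast_eq_zero_iff]
    exact hdvd
  have hqr : (q : ZMod r) ≠ 0 := fun h => by
    rw [hE.card, Nat.cast_pow, h, zero_pow (by norm_num)] at hQ
    exact zero_ne_one hQ
  obtain ⟨ζ, hζ⟩ := exists_zeta hQ
  obtain ⟨v, hv0, ⟨hvA, -⟩, -⟩ := vector hE d hζ hqr hx hxT
  have hroot := (Eigen.eigen_iff hcp (q : ZMod r)).1 ⟨v, hv0, hvA⟩
  have hrl : ¬ r ∣ l := by
    intro hd
    have h3 : r = 3 := by
      have h1 := Nat.le_of_dvd (by omega) hd
      rcases hl with rfl | rfl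
      · exact absurd ((Nat.prime_dvd_prime_iff_eq hr Nat.prime_two).1
          (hr.dvd_of_dvd_pow (show r ∣ 2 ^ 3 from hd))) hr2
      · rcases hr.dvd_mul.1 (show r ∣ 2 ^ 2 * 3 from hd) with h | h
        · exact absurd ((Nat.prime_dvd_prime_iff_eq hr Nat.prime_two).1 (hr.dvd_of_dvd_pow h)) hr2
        · exact (Nat.prime_dvd_prime_iff_eq hr Nat.prime_three).1 h
    subst h3
    rcases hl with rfl | rfl
    · norm_num at hd
    · exact not_root_twelve_three _ hqr hroot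
  haveI : NeZero (l : ZMod r) := ⟨fun h => hrl ((ZMod.natCast_eq_zero_iff _ _).1 h)⟩
  exact (Polynomial.isRoot_cyclotomic_iff.1 hroot).eq_orderOf.symm

/-- Two primes of the same primitive order eight or twelve have commuting elements. -/
theorem big_adjacent (hE : Ext q f σ) {r s : ℕ} [Fact r.Prime] [Fact s.Prime] {l : ℕ}
    (hl : l = 8 ∨ l = 12) (hr : orderOf (q : ZMod r) = l) (hs : orderOf (q : ZMod s) = l)
    (hsG : s ∣ Nat.card (chevF4.group F)) :
    ∃ x y : chevF4.group F, orderOf x = r ∧ orderOf y = s ∧ Commute x y := by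
  obtain ⟨y, hy⟩ := exists_prime_orderOf_dvd_card' (G := chevF4.group F) s hsG
  obtain ⟨d, hcp, hsup, hyT, -⟩ := big_torus hE hl hs hy
  have hd24 : l ∣ 24 := by rcases hl with rfl | rfl <;> norm_num
  obtain ⟨ζ, hζ⟩ := exists_zeta (p := r) (cast_card hE hr hd24)
  haveI : NeZero (l : ZMod r) := by
    have h5 := five_le hr (by omega)
    refine ⟨fun h => ?_⟩
    have h1 := (ZMod.natCast_eq_zero_iff l r).1 h
    have h2 := (Eigen.not_dvd_small (Fact.out : r.Prime) h5).2.1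
    rcases hl with rfl | rfl <;> exact h2 (h1.trans (by norm_num))
  have hroot : (Polynomial.cyclotomic l (ZMod r)).IsRoot (q : ZMod r) :=
    Polynomial.isRoot_cyclotomic_iff.2 (hr ▸ IsPrimitiveRoot.orderOf _)
  obtain ⟨v, hv0, hv⟩ := (Eigen.eigen_iff hcp _).2 hroot
  obtain ⟨x, hx, hxT⟩ := exists_element hζ hE d (cast_ne_zero hr (by omega)) hv0
    ⟨hv, fun t ht => absurd (hsup ▸ ht) (Finset.notMem_empty t)⟩
  exact ⟨x, y, hx, hy, commute_of_torus hE d hxT hyT⟩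

/-- Two distinct primitive orders among three, four and six do not commute. -/
theorem mid_not_commute (hE : Ext q f σ) {r s : ℕ} [Fact r.Prime] [Fact s.Prime] {k l : ℕ}
    (hk : k = 3 ∨ k = 4 ∨ k = 6) (hl : l = 3 ∨ l = 4 ∨ l = 6) (hkl : k ≠ l)
    (hr : orderOf (q : ZMod r) = k) (hs : orderOf (q : ZMod s) = l) {x y : chevF4.group F}
    (hx : orderOf x = r) (hy : orderOf y = s) (hxy : Commute x y) : False := by
  have hk24 : k ∣ 24 := by rcases hk with rfl | rfl | rfl <;> norm_num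
  have hl24 : l ∣ 24 := by rcases hl with rfl | rfl | rfl <;> norm_num
  have hr5 := five_le hr (by omega)
  have hs5 := five_le hs (by omega)
  have hQr := cast_card hE hr hk24
  have hQs := cast_card hE hs hl24
  obtain ⟨g1, hg1, hxT⟩ := into_torus_one hQr hr5 f hx
  obtain ⟨gv, hgv, hT⟩ := into_torus hQs hs5 f (Q := Subgroup.zpowers y)
    (IsPGroup.of_card (n := 1) (by rw [Nat.card_zpowers, hy, pow_one])) (inv_mem hg1)
    (S := {x}) (by rintro t (rfl : t = x); simpa using hxT)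
    (by rintro a ha t (rfl : t = x)
        obtain ⟨j, rfl⟩ := Subgroup.mem_zpowers_iff.1 ha
        exact hxy.symm.zpow_left j)
  obtain ⟨d, rfl⟩ := exists_data σ hgv
  obtain ⟨ζ, hζ⟩ := exists_zeta hQr
  obtain ⟨η, hη⟩ := exists_zeta hQs
  obtain ⟨v, hv0, ⟨hvA, -⟩, -⟩ := vector hE d hζ (cast_ne_zero hr (by omega)) hx (hT x (Or.inr rfl))
  obtain ⟨w, hw0, ⟨hwA, -⟩, -⟩ := vector hE d hη (cast_ne_zero hs (by omega)) hy
    (hT y (Or.inl (Subgroup.mem_zpowers y)))
  exact Weyl.not_two d.lt (Eigen.coefOf_mem k) (Eigen.coefOf_mem l) (Eigen.coefOf_inj hk hl hkl)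
    (Eigen.det_quad d.lt hk hr hr5 hv0 hvA) (Eigen.det_quad d.lt hl hs hs5 hw0 hwA)

/-- A Sylow subgroup for a primitive order three, four or six has two independent elements. -/
theorem two_elements (hq : Fintype.card F = q) {p : ℕ} [Fact p.Prime] {e : ℕ}
    (he : e = 3 ∨ e = 4 ∨ e = 6) (hp : orderOf (q : ZMod p) = e)
    (hpG : p ∣ Nat.card (chevF4.group F)) :
    ∃ (P : Sylow p (chevF4.group F)) (y₁ y₂ : chevF4.group F),
      y₁ ∈ (P : Subgroup (chevF4.group F)) ∧ y₂ ∈ (P : Subgroup (chevF4.group F)) ∧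
      y₁ ^ p = 1 ∧ y₂ ^ p = 1 ∧ ∀ a b : ℕ, y₁ ^ a * y₂ ^ b = 1 → p ∣ a ∧ p ∣ b := by
  classical
  haveI : Finite (chevF4.group F) := Finite.of_injective _ Subtype.val_injective
  have hp5 := five_le hp (by omega)
  have hq0 := cast_ne_zero hp (by omega)
  obtain ⟨P⟩ : Nonempty (Sylow p (chevF4.group F)) := inferInstance
  obtain ⟨ψ⟩ := Cfsg.Agent.S2378.result hq (chevF4, [2, 6, 8, 12]) (by simp) p
    (fun h => hq0 ((ZMod.natCast_eq_zero_iff _ _).2 h))
    (by simpa using (Eigen.not_dvd_small (Fact.out : p.Prime) hp5).1) hpG P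
  generalize hN : ([2, 6, 8, 12].filter fun d => decide (orderOf (q : ZMod p) ∣ d)).length = N at ψ
  have hN2 : N = 2 := by
    rw [← hN, hp]; rcases he with rfl | rfl | rfl <;> decide
  subst hN2
  generalize padicValNat p ((Polynomial.cyclotomic (orderOf (q : ZMod p)) ℤ).eval (q : ℤ)).natAbs = m at ψ
  have hP1 : p ∣ Nat.card P := P.dvd_card_of_dvd_card hpG
  have hm : m ≠ 0 := fun h => by
    subst h
    rw [Nat.card_congr ψ.toEquiv, Nat.card_fun, Nat.card_congr Multiplicative.toAdd, Nat.card_zmod,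
      pow_zero, one_pow, Nat.dvd_one] at hP1
    exact (Fact.out : p.Prime).one_lt.ne' hP1
  obtain ⟨j, rfl⟩ : ∃ j, m = j + 1 := ⟨m - 1, by omega⟩
  obtain ⟨z, hz⟩ : ∃ z : Fin 2 → P, z = fun i =>
      ψ.symm (Pi.mulSingle i (Multiplicative.ofAdd ((p ^ j : ℕ) : ZMod (p ^ (j + 1))))) := ⟨_, rfl⟩
  have hzp : ∀ i, z i ^ p = 1 := fun i => by
    rw [hz, ← map_pow, ← Pi.mulSingle_pow, ← ofAdd_nsmul, nsmul_eq_mul, ← Nat.cast_mul,
      mul_comm, ← pow_succ, ZMod.natCast_self, ofAdd_zero, Pi.mulSingle_one, map_one]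
  refine ⟨P, z 0, z 1, (z 0).2, (z 1).2, ?_, ?_, fun a b hab => ?_⟩
  · rw [← SubgroupClass.coe_pow, hzp]; rfl
  · rw [← SubgroupClass.coe_pow, hzp]; rfl
  have h1 : z 0 ^ a * z 1 ^ b = 1 := Subtype.ext (by simpa using hab)
  have h2 := congrArg ψ h1
  simp only [hz, map_mul, map_pow, MulEquiv.apply_symm_apply, map_one] at h2
  have key : ∀ a : ℕ, Multiplicative.ofAdd ((p ^ j : ℕ) : ZMod (p ^ (j + 1))) ^ a = 1 → p ∣ a := by
    intro a h
    rw [← ofAdd_nsmul, ofAdd_eq_one, nsmul_eq_mul, ← Nat.cast_mul, ZMod.natCast_eq_zero_iff,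
      pow_succ, mul_comm a] at h
    exact (Nat.mul_dvd_mul_iff_left (pow_pos (Fact.out : p.Prime).pos _)).1 h
  have h3 := congrFun h2 0
  have h4 := congrFun h2 1
  simp only [Pi.mul_apply, Pi.pow_apply, Pi.one_apply, Pi.mulSingle_eq_same, ne_eq, zero_ne_one,
    one_ne_zero, not_false_eq_true, Pi.mulSingle_eq_of_ne, one_pow, mul_one, one_mul] at h3 h4
  exact ⟨key a h3, key b h4⟩

/-- Two primes of the same primitive order three, four or six have commuting elements. -/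
theorem mid_adjacent (hE : Ext q f σ) (hq : Fintype.card F = q) {r s : ℕ} [Fact r.Prime]
    [Fact s.Prime] {e : ℕ} (he : e = 3 ∨ e = 4 ∨ e = 6) (hr : orderOf (q : ZMod r) = e)
    (hs : orderOf (q : ZMod s) = e) (hrG : r ∣ Nat.card (chevF4.group F)) :
    ∃ x y : chevF4.group F, orderOf x = r ∧ orderOf y = s ∧ Commute x y := by
  have he24 : e ∣ 24 := by rcases he with rfl | rfl | rfl <;> norm_num
  have hr5 := five_le hr (by omega)
  have hs5 := five_le hs (by omega)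
  have hqr := cast_ne_zero hr (by omega)
  obtain ⟨P, y₁, y₂, h₁, h₂, hp₁, hp₂, hind⟩ := two_elements hq he hr hrG
  obtain ⟨gv, hgv, hT⟩ := into_torus (cast_card hE hr he24) hr5 f (Q := (P : Subgroup (chevF4.group F)))
    P.2 (one_mem _) (S := ∅) (by simp) (by simp)
  obtain ⟨d, rfl⟩ := exists_data σ hgv
  obtain ⟨ζ, hζ⟩ := exists_zeta (p := r) (cast_card hE hr he24)
  obtain ⟨v₁, ⟨hA₁, hS₁⟩, e₁⟩ := exists_vector hζ hE d hqr hp₁ (hT y₁ (Or.inl h₁))
  obtain ⟨v₂, ⟨hA₂, hS₂⟩, e₂⟩ := exists_vector hζ hE d hqr hp₂ (hT y₂ (Or.inl h₂))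
  obtain ⟨V, hV⟩ : ∃ V : Matrix (Fin 2) (Fin chevF4.rank) (ZMod r), V = Matrix.of ![v₁, v₂] := ⟨_, rfl⟩
  have hVi : LinearIndependent (ZMod r) fun i => V i := by
    rw [show (fun i => V i) = ![v₁, v₂] by rw [hV]; rfl, LinearIndependent.pair_iff]
    intro a b hab
    rw [← ZMod.natCast_zmod_val a, ← ZMod.natCast_zmod_val b, Nat.cast_smul_eq_nsmul,
      Nat.cast_smul_eq_nsmul] at hab
    have h1 : y₁ ^ a.val * y₂ ^ b.val = 1 := by
      refine Subtype.ext (mapGL_injective f ?_)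
      rw [Subgroup.coe_mul, SubgroupClass.coe_pow, SubgroupClass.coe_pow, map_mul, map_pow, map_pow,
        Subgroup.coe_one, map_one, e₁, e₂, conj_pow, conj_pow, ← tor_nsmul hζ, ← tor_nsmul hζ]
      calc _ = d.gv * (tor chevF4 (cv ζ (a.val • v₁)) * tor chevF4 (cv ζ (b.val • v₂))) * d.gv⁻¹ := by
            group
        _ = 1 := by rw [← tor_add hζ, hab, tor_zero hζ]; group
    obtain ⟨ha, hb⟩ := hind _ _ h1
    exact ⟨(ZMod.val_eq_zero a).1 (Nat.eq_zero_of_dvd_of_lt ha (ZMod.val_lt a)),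
      (ZMod.val_eq_zero b).1 (Nat.eq_zero_of_dvd_of_lt hb (ZMod.val_lt b))⟩
  have hVA : V * Eigen.md r d.L = (q : ZMod r) • V := by
    rw [hV]
    funext i
    rw [Matrix.mul_apply_eq_vecMul]
    fin_cases i
    · exact hA₁
    · exact hA₂
  obtain ⟨hdet, hquad⟩ := Eigen.two d.lt he hr hr5 hVi hVA
  have hsup : d.sup = ∅ := by
    refine Finset.eq_empty_of_forall_notMem fun α hα => ?_
    obtain ⟨L', hL', hd', hv'⟩ := Eigen.exists_opposite (p := r) d.lt (d.sup_lt α hα)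
    have hVA' : V * Eigen.md r L' = (q : ZMod r) • V := by
      rw [← hVA, hV]
      funext i
      rw [Matrix.mul_apply_eq_vecMul, Matrix.mul_apply_eq_vecMul]
      fin_cases i
      · exact hv' v₁ (hS₁ α hα)
      · exact hv' v₂ (hS₂ α hα)
    have h1 := (Eigen.two hL' he hr hr5 hVi hVA').1
    rw [hd', Int.cast_neg, hdet] at h1
    have h2 : ((2 : ℕ) : ZMod r) = 0 := by push_cast; linear_combination -h1
    have := Nat.le_of_dvd two_pos ((ZMod.natCast_eq_zero_iff 2 r).1 h2)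
    omega
  obtain ⟨w, hw0, hw⟩ := Eigen.exists_eigen (p := s) d.lt (Eigen.quad_root he hs) hs5 hquad
  obtain ⟨η, hη⟩ := exists_zeta (p := s) (cast_card hE hs he24)
  obtain ⟨y, hy, hyT⟩ := exists_element hη hE d (cast_ne_zero hs (by omega)) hw0
    ⟨hw, fun t ht => absurd (hsup ▸ ht) (Finset.notMem_empty t)⟩
  refine ⟨y₁, y, orderOf_eq_prime hp₁ fun h => ?_, hy, commute_of_torus hE d (hT y₁ (Or.inl h₁)) hyT⟩
  have := Nat.le_of_dvd one_pos (hind 1 0 (by simp [h])).1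
  omega

end Cfsg.Agent.Chevalley.F4Graph.Semisimple
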