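import Cfsg.Agent.Lib.Chevalley.AltSection.WeylF4
import Cfsg.Agent.Lib.Chevalley.Singer.Small
import Cfsg.Agent.Lib.Chevalley.Types.OrderF4
import Cfsg.Agent.Lib.Chevalley.F4Graph.Linear

/-!
The Weyl group of type F4: no element has primitive eigenvalues of two of the orders three, four and six;
determinants of words and reflections.
-/

set_option autoImplicit false
set_option maxRecDepth 100000
set_option Elab.async false

open scoped Matrix

namespace Cfsg.Agent.Chevalley.F4Graph.Weyl

open Cfsg.Lie Cfsg.Agent.Chevalley Cfsg.Agent.Chevalley.Table Cfsg.Agent.Chevalley.Cert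
  Cfsg.Agent.Chevalley.Group Cfsg.Agent.Chevalley.WeylEnum Cfsg.Agent.Chevalley.TorusCard Cfsg.Agent.Chevalley.Twist
  Cfsg.Agent.Chevalley.Singer Cfsg.Agent.Chevalley.AltSection.WeylF4

/-- The determinant of a four by four matrix, by complementary minors. -/
def det4 (f : ℕ → ℕ → ℤ) : ℤ :=
  (f 0 0 * f 1 1 - f 0 1 * f 1 0) * (f 2 2 * f 3 3 - f 2 3 * f 3 2) -
  (f 0 0 * f 1 2 - f 0 2 * f 1 0) * (f 2 1 * f 3 3 - f 2 3 * f 3 1) +
  (f 0 0 * f 1 3 - f 0 3 * f 1 0) * (f 2 1 * f 3 2 - f 2 2 * f 3 1) +
  (f 0 1 * f 1 2 - f 0 2 * f 1 1) * (f 2 0 * f 3 3 - f 2 3 * f 3 0) -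
  (f 0 1 * f 1 3 - f 0 3 * f 1 1) * (f 2 0 * f 3 2 - f 2 2 * f 3 0) +
  (f 0 2 * f 1 3 - f 0 3 * f 1 2) * (f 2 0 * f 3 1 - f 2 1 * f 3 0)

/-- The entries of `w ^ 2 + c w + 1` on the fundamental roots. -/
noncomputable def quadEntry (c : ℤ) (e : List ℕ) (a j : ℕ) : ℤ :=
  Data.F4.tab.A a (app e (app e (Data.F4.tab.simple j))) + c * Data.F4.tab.A a (app e (Data.F4.tab.simple j)) +
    Data.F4.tab.A a (Data.F4.tab.simple j)

/-- `w ^ 2 + c w + 1` is singular. -/
noncomputable def sing (c : ℤ) (e : List ℕ) : Bool := det4 (quadEntry c e) == 0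

/-- At most one of the three relations. -/
noncomputable def pairChk (e : List ℕ) : Bool :=
  !(sing 1 e && sing 0 e || sing 1 e && sing (-1) e || sing 0 e && sing (-1) e)

theorem pair0 : ((List.range' 0 64).all fun k => pairChk (ent k).1) = true := by decide +kernel

theorem pair64 : ((List.range' 64 64).all fun k => pairChk (ent k).1) = true := by decide +kernel

theorem pair128 : ((List.range' 128 64).all fun k => pairChk (ent k).1) = true := by decide +kernel

theorem pair192 : ((List.range' 192 64).all fun k => pairChk (ent k).1) = true := by decide +kernel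

theorem pair256 : ((List.range' 256 64).all fun k => pairChk (ent k).1) = true := by decide +kernel

theorem pair320 : ((List.range' 320 64).all fun k => pairChk (ent k).1) = true := by decide +kernel

theorem pair384 : ((List.range' 384 64).all fun k => pairChk (ent k).1) = true := by decide +kernel

theorem pair448 : ((List.range' 448 64).all fun k => pairChk (ent k).1) = true := by decide +kernel

theorem pair512 : ((List.range' 512 64).all fun k => pairChk (ent k).1) = true := by decide +kernel

theorem pair576 : ((List.range' 576 64).all fun k => pairChk (ent k).1) = true := by decide +kernel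

theorem pair640 : ((List.range' 640 64).all fun k => pairChk (ent k).1) = true := by decide +kernel

theorem pair704 : ((List.range' 704 64).all fun k => pairChk (ent k).1) = true := by decide +kernel

theorem pair768 : ((List.range' 768 64).all fun k => pairChk (ent k).1) = true := by decide +kernel

theorem pair832 : ((List.range' 832 64).all fun k => pairChk (ent k).1) = true := by decide +kernel

theorem pair896 : ((List.range' 896 64).all fun k => pairChk (ent k).1) = true := by decide +kernel

theorem pair960 : ((List.range' 960 64).all fun k => pairChk (ent k).1) = true := by decide +kernel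

theorem pair1024 : ((List.range' 1024 64).all fun k => pairChk (ent k).1) = true := by decide +kernel

theorem pair1088 : ((List.range' 1088 64).all fun k => pairChk (ent k).1) = true := by decide +kernel

theorem pair_ok : ∀ k < 1152, pairChk (ent k).1 = true := by
  intro k hk
  by_cases h0 : k < 64
  · exact List.all_eq_true.1 pair0 k (List.mem_range'_1.2 ⟨by omega, by omega⟩)
  by_cases h64 : k < 128
  · exact List.all_eq_true.1 pair64 k (List.mem_range'_1.2 ⟨by omega, by omega⟩)
  by_cases h128 : k < 192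
  · exact List.all_eq_true.1 pair128 k (List.mem_range'_1.2 ⟨by omega, by omega⟩)
  by_cases h192 : k < 256
  · exact List.all_eq_true.1 pair192 k (List.mem_range'_1.2 ⟨by omega, by omega⟩)
  by_cases h256 : k < 320
  · exact List.all_eq_true.1 pair256 k (List.mem_range'_1.2 ⟨by omega, by omega⟩)
  by_cases h320 : k < 384
  · exact List.all_eq_true.1 pair320 k (List.mem_range'_1.2 ⟨by omega, by omega⟩)
  by_cases h384 : k < 448
  · exact List.all_eq_true.1 pair384 k (List.mem_range'_1.2 ⟨by omega, by omega⟩)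
  by_cases h448 : k < 512
  · exact List.all_eq_true.1 pair448 k (List.mem_range'_1.2 ⟨by omega, by omega⟩)
  by_cases h512 : k < 576
  · exact List.all_eq_true.1 pair512 k (List.mem_range'_1.2 ⟨by omega, by omega⟩)
  by_cases h576 : k < 640
  · exact List.all_eq_true.1 pair576 k (List.mem_range'_1.2 ⟨by omega, by omega⟩)
  by_cases h640 : k < 704
  · exact List.all_eq_true.1 pair640 k (List.mem_range'_1.2 ⟨by omega, by omega⟩)
  by_cases h704 : k < 768
  · exact List.all_eq_true.1 pair704 k (List.mem_range'_1.2 ⟨by omega, by omega⟩)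
  by_cases h768 : k < 832
  · exact List.all_eq_true.1 pair768 k (List.mem_range'_1.2 ⟨by omega, by omega⟩)
  by_cases h832 : k < 896
  · exact List.all_eq_true.1 pair832 k (List.mem_range'_1.2 ⟨by omega, by omega⟩)
  by_cases h896 : k < 960
  · exact List.all_eq_true.1 pair896 k (List.mem_range'_1.2 ⟨by omega, by omega⟩)
  by_cases h960 : k < 1024
  · exact List.all_eq_true.1 pair960 k (List.mem_range'_1.2 ⟨by omega, by omega⟩)
  by_cases h1024 : k < 1088
  · exact List.all_eq_true.1 pair1024 k (List.mem_range'_1.2 ⟨by omega, by omega⟩)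
  by_cases h1088 : k < 1152
  · exact List.all_eq_true.1 pair1088 k (List.mem_range'_1.2 ⟨by omega, by omega⟩)
  omega

theorem det_fin_four (A : Matrix (Fin 4) (Fin 4) ℤ) :
    A.det = det4 (fun a j => if h : a < 4 ∧ j < 4 then A ⟨a, h.1⟩ ⟨j, h.2⟩ else 0) := by
  rw [Matrix.det_succ_row_zero]
  simp [det4, Fin.sum_univ_succ, Fin.succAbove, Matrix.det_fin_three]
  ring

theorem det4_congr {f g : ℕ → ℕ → ℤ} (h : ∀ a < 4, ∀ j < 4, f a j = g a j) : det4 f = det4 g := by
  simp [det4, h]

/-- The matrix of `w ^ 2 + c w + 1` in weight coordinates. -/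
noncomputable def quad (c : ℤ) (L : List ℕ) : Matrix (Fin chevF4.rank) (Fin chevF4.rank) ℤ :=
  wMat chevF4 L * wMat chevF4 L + c • wMat chevF4 L + 1

theorem cartan_isUnit : IsUnit (cartanMat chevF4).det := by
  exact Singer.isUnit_det_of_diag (Chevalley.Types.OrderF4.hdiag.trans
    (by ext i j; fin_cases i <;> fin_cases j <;> rfl))

theorem quad_mulVec (c : ℤ) {L : List ℕ} (hL : ∀ i ∈ L, i < chevF4.rank) {r : ℕ}
    (hr : r < chevF4.nroots) :
    quad c L *ᵥ lam chevF4 r =
      lam chevF4 (wL chevF4 L (wL chevF4 L r)) + c • lam chevF4 (wL chevF4 L r) + lam chevF4 r := by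
  rw [quad, Matrix.add_mulVec, Matrix.add_mulVec, Matrix.one_mulVec, ← Matrix.mulVec_mulVec,
    Matrix.smul_mulVec, wMat_lam hC hL hr, wMat_lam hC hL (wL_lt hC hL hr)]

theorem sing_of_det {c : ℤ} {L : List ℕ} (hL : ∀ i ∈ L, i < chevF4.rank) {k : ℕ} (hk : k < 1152)
    (hLk : Eqv chevF4 L (ent k).1) (h : (quad c L).det = 0) : sing c (ent k).1 = true := by
  rw [sing, beq_iff_eq]
  have h1 : (quad c L * (cartanMat chevF4)ᵀ).det = 0 := by rw [Matrix.det_mul, h, zero_mul]
  rw [← h1]
  refine ((det_fin_four (quad c L * (cartanMat chevF4)ᵀ : Matrix (Fin 4) (Fin 4) ℤ)).trans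
    (det4_congr fun a ha j hj => ?_)).symm
  rw [dif_pos ⟨ha, hj⟩]
  have ha' : a < chevF4.rank := rank_eq ▸ ha
  have hj' : j < chevF4.rank := rank_eq ▸ hj
  have hs := hC.simple_lt hj'
  show (quad c L *ᵥ lam chevF4 (chevF4.simple j)) ⟨a, ha'⟩ = _
  have hw : ∀ r < chevF4.nroots, app (ent k).1 r = wL chevF4 L r := fun r hr => by
    rw [app_eq (ent_lt hk) hr, show applyW Data.F4.tab (ent k).1 r = wL chevF4 (ent k).1 r from
      StConj.actT_foldr hC (ent_lt hk) hr, hLk r hr]
  rw [quad_mulVec c hL hs, quadEntry, hC.simple_eq hj', hw _ hs, hw _ (wL_lt hC hL hs),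
    hC.linked.A_eq a ha' _ (wL_lt hC hL (wL_lt hC hL hs)), hC.linked.A_eq a ha' _ (wL_lt hC hL hs),
    hC.linked.A_eq a ha' _ hs]
  simp [lam]

/-- At most one of the three quadratic polynomials is singular. -/
theorem not_two {L : List ℕ} (hL : ∀ i ∈ L, i < chevF4.rank) {a b : ℤ}
    (ha : a = 1 ∨ a = 0 ∨ a = -1) (hb : b = 1 ∨ b = 0 ∨ b = -1) (hab : a ≠ b)
    (h1 : (quad a L).det = 0) (h2 : (quad b L).det = 0) : False := by
  obtain ⟨k, hk, hLk⟩ := cover L hL
  have e1 := sing_of_det hL hk hLk h1
  have e2 := sing_of_det hL hk hLk h2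
  have h := pair_ok k hk
  rcases ha with rfl | rfl | rfl <;> rcases hb with rfl | rfl | rfl <;>
    first | exact hab rfl | simp [pairChk, e1, e2] at h

variable {D : ChevalleyDatum} {T : Tab} (hC' : Certified D T)
include hC'

theorem det_refMat {i : ℕ} (hi : i < D.rank) : (refMat D i).det = -1 := by
  rw [refMat, Linear.det_one_sub_vecMulVec, delta_dot hi]
  simp [lam, hC'.cartan_simple hi]

end Cfsg.Agent.Chevalley.F4Graph.Weyl
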